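import Mathlib
import Cfsg.Agent.Lib.H25.ZasFPF
import Cfsg.Agent.Lib.H21.FrobSemidirect
import Cfsg.Agent.Lib.H21.FrobShrink
import Cfsg.Agent.Lib.H1.LiftG
import Cfsg.Agent.S3357

/-!
# Zassenhaus' theorem: from Frobenius complements to fixed-point-free complex representations
(helper5)
-/

set_option autoImplicit false

namespace Cfsg.Agent.Lib.H5.Zas

open Subgroup Cfsg.Agent.Lib.H25.Zas Matrix

universe u

/-- a group isomorphic to a Frobenius complement has a fixed-point-free complex representation -/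
theorem isFPF_of_frobeniusComplement {G : Type*} [Group G] [Finite G]
    (hFC : ∃ (L : Type) (_ : Group L) (_ : Finite L) (H : Subgroup L),
      Cfsg.IsFrobeniusComplement H ∧ Nonempty (G ≃* H)) : IsFPF G := by
  classical
  obtain ⟨n, ρ, hn, -, -, hfpf⟩ := Cfsg.Agent.S3357.result hFC
  set ι := Cfsg.Agent.Lib.H1.Lift.embQbar with hι
  have hιinj : Function.Injective ι := Cfsg.Agent.Lib.H1.Lift.embQbar_injective
  let σ : G →* Module.End ℂ (Fin n → ℂ) :=
    ((Matrix.toLinAlgEquiv' : Matrix (Fin n) (Fin n) ℂ ≃ₐ[ℂ] _) :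
        Matrix (Fin n) (Fin n) ℂ →* Module.End ℂ (Fin n → ℂ)).comp
      ((Units.coeHom _).comp ((Matrix.GeneralLinearGroup.map ι).comp ρ))
  haveI : Nonempty (Fin n) := ⟨⟨0, hn⟩⟩
  refine ⟨Fin n → ℂ, inferInstance, inferInstance, inferInstance, inferInstance, σ, ?_⟩
  intro g hg v hv
  by_contra hv0
  have h1 : σ g v = (ι.mapMatrix ((ρ g : GL (Fin n) (AlgebraicClosure ℚ)) :
      Matrix (Fin n) (Fin n) (AlgebraicClosure ℚ))) *ᵥ v := by
    show Matrix.toLinAlgEquiv' _ v = _
    rw [Matrix.toLinAlgEquiv'_apply]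
    rfl
  rw [h1] at hv
  set A : Matrix (Fin n) (Fin n) (AlgebraicClosure ℚ) :=
    ((ρ g : GL (Fin n) (AlgebraicClosure ℚ)) : Matrix (Fin n) (Fin n) (AlgebraicClosure ℚ))
    with hA
  have h2 : (ι.mapMatrix (A - 1)) *ᵥ v = 0 := by
    rw [map_sub, map_one, Matrix.sub_mulVec, hv, Matrix.one_mulVec, sub_self]
  have h3 : (ι.mapMatrix (A - 1)).det = 0 :=
    Matrix.exists_mulVec_eq_zero_iff.mp ⟨v, hv0, h2⟩
  rw [← RingHom.map_det] at h3
  have h4 : (A - 1).det = 0 := hιinj (by rw [h3, map_zero])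
  obtain ⟨w, hw0, hw⟩ := Matrix.exists_mulVec_eq_zero_iff.mpr h4
  apply hw0
  apply hfpf g hg w
  rw [Matrix.sub_mulVec, Matrix.one_mulVec, sub_eq_zero] at hw
  exact hw

/-- a nontrivial group of fixed-point-free automorphisms of a finite group is (isomorphic to)
a Frobenius complement -/
theorem exists_frobenius_of_fpf_mulAut {K : Type u} [Group K] [Finite K]
    (G : Subgroup (MulAut K))
    (hfpf : ∀ φ ∈ G, φ ≠ 1 → ∀ k : K, φ k = k → k = 1) (hne : G ≠ ⊥) :
    ∃ (L : Type) (_ : Group L) (_ : Finite L) (C : Subgroup L),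
      Cfsg.IsFrobeniusComplement C ∧ Nonempty (G ≃* C) := by
  haveI : Nontrivial G := by
    rw [← Subgroup.nontrivial_iff_ne_bot] at hne
    exact hne
  haveI : Nontrivial K := by
    by_contra h
    rw [not_nontrivial_iff_subsingleton] at h
    apply hne
    rw [eq_bot_iff]
    intro φ _
    rw [mem_bot]
    ext k
    exact Subsingleton.elim _ _
  let φ : G →* MulAut K := G.subtype
  haveI : Finite (K ⋊[φ] G) :=
    Finite.of_equiv _ (SemidirectProduct.equivProd (φ := φ)).symm
  have hC₀ : Cfsg.IsFrobeniusComplement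
      (SemidirectProduct.inr : G →* K ⋊[φ] G).range := by
    apply Cfsg.Agent.Lib.H21.isFrobeniusComplement_range_inr
    intro g hg k hk
    exact hfpf g.1 g.2 (fun h => hg (Subtype.ext h)) k hk
  haveI : Small.{0} (K ⋊[φ] G) := Countable.toSmall _
  let e : Shrink.{0} (K ⋊[φ] G) ≃* (K ⋊[φ] G) := Shrink.mulEquiv
  haveI : Finite (Shrink.{0} (K ⋊[φ] G)) := Finite.of_equiv _ e.symm.toEquiv
  refine ⟨Shrink.{0} (K ⋊[φ] G), inferInstance, inferInstance,
    (SemidirectProduct.inr : G →* K ⋊[φ] G).range.map e.symm.toMonoidHom,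
    Cfsg.Agent.Lib.H21.isFrobeniusComplement_map e.symm hC₀, ?_⟩
  exact ⟨(MonoidHom.ofInjective SemidirectProduct.inr_injective).trans
    (e.symm.subgroupMap _)⟩

/-- **Bridge**: a nontrivial group of fixed-point-free automorphisms of a finite group has a
fixed-point-free complex representation. -/
theorem isFPF_of_fpf_mulAut {K : Type u} [Group K] [Finite K]
    (G : Subgroup (MulAut K))
    (hfpf : ∀ φ ∈ G, φ ≠ 1 → ∀ k : K, φ k = k → k = 1) (hne : G ≠ ⊥) : IsFPF G :=
  isFPF_of_frobeniusComplement (exists_frobenius_of_fpf_mulAut G hfpf hne)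

end Cfsg.Agent.Lib.H5.Zas
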