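import Mathlib
import Cfsg.Agent.Lib.H22.Deg2Prim

/-!
# Finite irreducible subgroups of `GL₂(ℂ)`: the central quotient (helper5)

The central quotient of a finite group with a faithful irreducible complex representation of
degree two is cyclic, dihedral, `A₄`, `S₄` or `A₅`  (repackaging of helper22's `Deg2Prim`).
-/

set_option autoImplicit false

namespace Cfsg.Agent.Lib.H5.Zas

open Subgroup Cfsg.Agent.Lib.H22.Deg2Prim

theorem center_quotient_cases {G : Type*} [Group G] [Finite G]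
    (ρ : Representation ℂ G (Fin 2 → ℂ)) [ρ.IsIrreducible] (hfaithρ : Function.Injective ρ) :
    IsCyclic (G ⧸ center G) ∨
    (∃ n : ℕ, Nonempty (G ⧸ center G ≃* DihedralGroup n)) ∨
    Nonempty (G ⧸ center G ≃* alternatingGroup (Fin 4)) ∨
    Nonempty (G ⧸ center G ≃* Equiv.Perm (Fin 4)) ∨
    Nonempty (G ⧸ center G ≃* alternatingGroup (Fin 5)) := by
  classical
  have pk := fun (x : G) (hx : x ∉ center G) => exists_matHom ρ hfaithρ hx
  have H1 : ∀ x : G, x ∉ center G → ∀ y ∈ centralizer ({x} : Set G), y ∉ center G →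
      centralizer ({y} : Set G) = centralizer {x} := by
    intro x hx y hy hyZ
    obtain ⟨M, hinj, hZ, hreg, -⟩ := pk x hx
    exact centralizer_eq M hinj hZ hreg hy hyZ
  have H2 : ∀ x : G, x ∉ center G → ∃ c ∈ centralizer ({x} : Set G),
      ∀ y ∈ centralizer ({x} : Set G), ∃ k : ℤ, y * (c ^ k)⁻¹ ∈ center G := by
    intro x hx
    obtain ⟨M, hinj, hZ, hreg, -⟩ := pk x hx
    exact exists_gen M hinj hZ hreg
  have H3 : ∀ x : G, x ∉ center G → ∀ g : G, g * x * g⁻¹ ∈ centralizer ({x} : Set G) →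
      g ∉ centralizer ({x} : Set G) →
      g * g ∈ center G ∧ ∀ y ∈ centralizer ({x} : Set G), g * y * g⁻¹ * y ∈ center G := by
    intro x hx g hg hg'
    obtain ⟨M, hinj, hZ, hreg, -⟩ := pk x hx
    have ha := isAnti_of_norm M hinj hreg hg hg'
    exact ⟨sq_mem_center M hZ ha, fun y hy =>
      conj_mul_mem_center M hZ ha ((mem_centralizer_iff_isDiag M hinj hreg y).mp hy)⟩
  have H4 : ∀ x : G, x ∉ center G → ∀ g g' : G, g * x * g⁻¹ ∈ centralizer ({x} : Set G) →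
      g ∉ centralizer ({x} : Set G) → g' * x * g'⁻¹ ∈ centralizer ({x} : Set G) →
      g' ∉ centralizer ({x} : Set G) → g * g' ∈ centralizer ({x} : Set G) := by
    intro x hx g g' hg hg' hk hk'
    obtain ⟨M, hinj, hZ, hreg, -⟩ := pk x hx
    exact mul_mem_centralizer M hinj hreg (isAnti_of_norm M hinj hreg hg hg')
      (isAnti_of_norm M hinj hreg hk hk')
  let D := tpOfCenter H1 H2 H3 H4
  rcases Cfsg.Agent.Lib.H5.TP.classify D with ⟨hcyc, -⟩ | ⟨q, hq, ⟨e⟩⟩ | ⟨⟨e⟩⟩ | ⟨⟨e⟩⟩ | ⟨⟨e⟩⟩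
  · exact Or.inl hcyc
  · exact Or.inr (Or.inl ⟨_, ⟨e⟩⟩)
  · exact Or.inr (Or.inr (Or.inl ⟨e⟩))
  · exact Or.inr (Or.inr (Or.inr (Or.inl ⟨e⟩)))
  · exact Or.inr (Or.inr (Or.inr (Or.inr ⟨e⟩)))

end Cfsg.Agent.Lib.H5.Zas
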