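import Mathlib
import Cfsg.Agent.Lib.H25.ZasTwoGen
import Cfsg.Agent.Lib.H25.ZasSyl
import Cfsg.Agent.Lib.H25.ZasEigen
import Cfsg.Agent.Lib.H4.NF.AbCyc
import Cfsg.Agent.S0493

/-!
# Zassenhaus' theorem, group level: basic tools (helper5)

General facts on perfect groups and on groups with a fixed-point-free complex representation.
-/

set_option autoImplicit false

namespace Cfsg.Agent.Lib.H5.Zas

open Subgroup Cfsg.Agent.Lib.H25.Zas Cfsg.Agent.Lib.H4.NF

/-! ### perfect groups -/

/-- a homomorphism from a perfect group to a commutative group is trivial -/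
theorem hom_eq_one_of_perfect_comm {G A : Type*} [Group G] [CommGroup A]
    (hperf : commutator G = ⊤) (f : G →* A) (g : G) : f g = 1 := by
  have h := Abelianization.commutator_subset_ker f
  rw [hperf] at h
  exact h (mem_top g)

/-- the image of a perfect group is perfect -/
theorem commutator_eq_top_of_surjective {G B : Type*} [Group G] [Group B]
    (hperf : commutator G = ⊤) (f : G →* B) (hf : Function.Surjective f) : commutator B = ⊤ := by
  have h1 := Subgroup.map_commutator (⊤ : Subgroup G) ⊤ f
  have h2 : (⊤ : Subgroup G).map f = ⊤ := by
    rw [← MonoidHom.range_eq_map]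
    exact MonoidHom.range_eq_top.mpr hf
  have h3 : (⁅(⊤ : Subgroup G), ⊤⁆ : Subgroup G) = ⊤ := hperf
  rw [h2, h3, h2] at h1
  exact h1.symm

/-- a perfect solvable group is trivial -/
theorem subsingleton_of_perfect_solvable {B : Type*} [Group B] [Group.IsSolvable B]
    (hperf : commutator B = ⊤) : Subsingleton B := by
  by_contra h
  rw [not_subsingleton_iff_nontrivial] at h
  have := Group.IsSolvable.commutator_lt_top_of_nontrivial B
  rw [hperf] at this
  exact lt_irrefl _ this

/-- a homomorphism from a perfect group to a solvable group is trivial -/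
theorem hom_eq_one_of_perfect_solvable {G B : Type*} [Group G] [Group B] [Group.IsSolvable B]
    (hperf : commutator G = ⊤) (f : G →* B) (g : G) : f g = 1 := by
  have h1 : commutator f.range = ⊤ :=
    commutator_eq_top_of_surjective hperf f.rangeRestrict f.rangeRestrict_surjective
  haveI := subsingleton_of_perfect_solvable h1
  have : f.rangeRestrict g = 1 := Subsingleton.elim _ _
  exact congrArg Subtype.val this

/-- a perfect group has no subgroup of index `2` -/
theorem index_ne_two_of_perfect {G : Type*} [Group G] (hperf : commutator G = ⊤)
    (H : Subgroup G) : H.index ≠ 2 := by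
  intro h
  haveI := normal_of_index_eq_two h
  haveI : Fact (Nat.Prime 2) := ⟨Nat.prime_two⟩
  have hc : Nat.card (G ⧸ H) = 2 := by rw [← index_eq_card]; exact h
  haveI := isCyclic_of_prime_card hc
  letI : CommGroup (G ⧸ H) := IsCyclic.commGroup
  have h1 : ∀ g : G, g ∈ H := by
    intro g
    have := hom_eq_one_of_perfect_comm hperf (QuotientGroup.mk' H) g
    rwa [QuotientGroup.mk'_apply, QuotientGroup.eq_one_iff] at this
  have h2 : H = ⊤ := eq_top_iff.mpr fun g _ => h1 g
  rw [h2, index_top] at h
  omega

/-- groups of order less than `60` are solvable -/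
theorem isSolvable_of_card_lt_sixty : ∀ (n : ℕ) (G : Type) [Group G] [Finite G],
    Nat.card G ≤ n → Nat.card G < 60 → Group.IsSolvable G := by
  intro n
  induction n with
  | zero =>
    intro G _ _ h0 _
    have : 0 < Nat.card G := Nat.card_pos
    omega
  | succ n ih =>
    intro G _ _ hn h60
    by_cases hsub : Subsingleton G
    · exact isSolvable_of_comm (fun a b => Subsingleton.elim _ _)
    rw [not_subsingleton_iff_nontrivial] at hsub
    by_cases hs : IsSimpleGroup G
    · by_cases hc : IsCyclic G
      · letI : CommGroup G := IsCyclic.commGroup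
        exact isSolvable_of_comm (fun a b => mul_comm a b)
      · have := Cfsg.Agent.S0493.result hc (by omega)
        omega
    · -- a proper nontrivial normal subgroup
      have : ∃ N : Subgroup G, N.Normal ∧ N ≠ ⊥ ∧ N ≠ ⊤ := by
        by_contra hno
        push_neg at hno
        apply hs
        exact ⟨fun N hN => by
          by_cases h : N = ⊥
          · left; exact h
          · right; exact hno N hN h⟩
      obtain ⟨N, hN, hNb, hNt⟩ := this
      have hN1 : 1 < Nat.card N := by
        by_contra h
        apply hNb
        have : Nat.card N = 1 := by have := Nat.card_pos (α := N); omega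
        exact (Subgroup.card_eq_one.mp this)
      have hN2 : 1 < N.index := by
        by_contra h
        apply hNt
        have h0 : N.index ≠ 0 := index_ne_zero_of_finite
        have : N.index = 1 := by omega
        exact index_eq_one.mp this
      have hmul := N.index_mul_card
      have hNlt : Nat.card N ≤ n := by nlinarith
      have hQlt : Nat.card (G ⧸ N) ≤ n := by rw [← index_eq_card]; nlinarith
      have hNc : Nat.card N < 60 := by nlinarith
      have hQc : Nat.card (G ⧸ N) < 60 := by rw [← index_eq_card]; nlinarith
      haveI : Group.IsSolvable N := ih N hNlt hNc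
      haveI : Group.IsSolvable (G ⧸ N) := ih (G ⧸ N) hQlt hQc
      exact solvable_of_ker_le_range N.subtype (QuotientGroup.mk' N) (by
        rw [QuotientGroup.ker_mk', Subgroup.range_subtype])

/-! ### fixed-point-free groups -/

theorem abCyc_of_isFPF {G : Type*} [Group G] [Finite G] (h : IsFPF G) : AbCyc G := by
  intro K hK
  exact (h.subgroup K).isCyclic_of_comm (fun a b => hK.is_comm.comm a b)

end Cfsg.Agent.Lib.H5.Zas
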