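import Mathlib
import Cfsg.Agent.Lib.H5.Zas.Basic

/-!
# Zassenhaus' theorem: perfect fixed-point-free groups, first properties (helper5)
-/

set_option autoImplicit false

namespace Cfsg.Agent.Lib.H5.Zas

open Subgroup Cfsg.Agent.Lib.H25.Zas Cfsg.Agent.Lib.H4.NF

/-- a fixed-point-free group with a cyclic Sylow `2`-subgroup is a Z-group -/
theorem isZGroup_of_cyclic_sylow_two {G : Type*} [Group G] [Finite G] (h : IsFPF G)
    (P : Sylow 2 G) (hP : IsCyclic P) : IsZGroup G := by
  refine ⟨fun p hp Q => ?_⟩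
  haveI := Fact.mk hp
  rcases h.sylow p Q with hc | ⟨rfl, -⟩
  · exact hc
  · exact isCyclic_of_surjective (Sylow.equiv P Q) (Sylow.equiv P Q).surjective

/-- the Sylow `2`-subgroups of a non-trivial perfect fixed-point-free group are (generalized)
quaternion -/
theorem sylow_two_quaternion {G : Type*} [Group G] [Finite G] (h : IsFPF G)
    (hperf : commutator G = ⊤) [Nontrivial G] (P : Sylow 2 G) :
    ∃ n : ℕ, 1 ≤ n ∧ Nonempty (P ≃* QuaternionGroup (2 ^ n)) := by
  haveI : Fact (Nat.Prime 2) := ⟨Nat.prime_two⟩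
  have hnc : ¬ IsCyclic P := by
    intro hc
    haveI := isZGroup_of_cyclic_sylow_two h P hc
    have := IsZGroup.commutator_lt G
    rw [hperf] at this
    exact lt_irrefl _ this
  rcases h.sylow 2 P with hc | ⟨-, n, ⟨e⟩⟩
  · exact absurd hc hnc
  · refine ⟨n, ?_, ⟨e⟩⟩
    by_contra hn
    have hn0 : n = 0 := by omega
    subst hn0
    apply hnc
    haveI := QuaternionGroup.quaternionGroup_one_isCyclic
    rw [pow_zero] at e
    exact isCyclic_of_surjective e.symm e.symm.surjective

/-- `8` divides the order of a non-trivial perfect fixed-point-free group -/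
theorem eight_dvd_card {G : Type*} [Group G] [Finite G] (h : IsFPF G)
    (hperf : commutator G = ⊤) [Nontrivial G] : 8 ∣ Nat.card G := by
  haveI : Fact (Nat.Prime 2) := ⟨Nat.prime_two⟩
  obtain ⟨P⟩ : Nonempty (Sylow 2 G) := inferInstance
  obtain ⟨n, hn, ⟨e⟩⟩ := sylow_two_quaternion h hperf P
  have hc : Nat.card P = 4 * 2 ^ n := by
    haveI : NeZero (2 ^ n) := ⟨by positivity⟩
    rw [Nat.card_congr e.toEquiv, Nat.card_eq_fintype_card, QuaternionGroup.card]
  have h1 : Nat.card P ∣ Nat.card G := Subgroup.card_subgroup_dvd_card _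
  rw [hc] at h1
  obtain ⟨m, rfl⟩ : ∃ m, n = m + 1 := ⟨n - 1, by omega⟩
  refine dvd_trans ?_ h1
  rw [pow_succ]
  exact ⟨2 ^ m, by ring⟩

end Cfsg.Agent.Lib.H5.Zas
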