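import Mathlib
import Cfsg.Agent.Lib.H5.Zas.Perf
import Cfsg.Agent.Lib.H5.Zas.Dim2a
import Cfsg.Agent.Lib.H5.PSL2Solvable
import Cfsg.Agent.Lib.L0.CharDecomp
import Cfsg.Agent.S3378

/-!
# Zassenhaus' theorem: the two-dimensional case (helper5)

A non-trivial perfect group with a fixed-point-free complex representation of degree at most two
is isomorphic to `SL(2,5)`.
-/

set_option autoImplicit false

namespace Cfsg.Agent.Lib.H5.Zas

open Subgroup Cfsg.Agent.Lib.H25.Zas Module

section line

variable {G : Type*} [Group G] {V : Type*} [AddCommGroup V] [Module ℂ V]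

/-- a fixed-point-free group leaving a line invariant is abelian -/
theorem comm_of_invariant_line (ρ : G →* End ℂ V)
    (hfpf : ∀ g : G, g ≠ 1 → ∀ v : V, ρ g v = v → v = 0)
    (u : V) (hu : u ≠ 0) (hinv : ∀ g : G, ∃ c : ℂ, ρ g u = c • u) (a b : G) :
    a * b = b * a := by
  obtain ⟨α, hα⟩ := hinv a
  obtain ⟨β, hβ⟩ := hinv b
  have h1 : ρ (a * b) u = ρ (b * a) u := by
    rw [map_mul, map_mul, Module.End.mul_apply, Module.End.mul_apply, hβ, hα, map_smul, map_smul,
      hα, hβ, smul_smul, smul_smul, mul_comm]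
  by_contra hne
  have h2 : (b * a)⁻¹ * (a * b) ≠ 1 := fun h => hne (by
    have h3 : a * b = (b * a) * ((b * a)⁻¹ * (a * b)) := by group
    rw [h, mul_one] at h3
    exact h3)
  apply hu
  apply hfpf _ h2
  rw [map_mul, Module.End.mul_apply, h1, ← Module.End.mul_apply, ← map_mul, inv_mul_cancel,
    map_one]
  rfl

theorem false_of_comm [Nontrivial G] (hperf : commutator G = ⊤)
    (hcomm : ∀ a b : G, a * b = b * a) : False := by
  letI : CommGroup G := { (inferInstance : Group G) with mul_comm := hcomm }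
  obtain ⟨g, hg⟩ := exists_ne (1 : G)
  exact hg (hom_eq_one_of_perfect_comm hperf (MonoidHom.id G) g)

theorem false_of_invariant_line [Nontrivial G] (hperf : commutator G = ⊤) (ρ : G →* End ℂ V)
    (hfpf : ∀ g : G, g ≠ 1 → ∀ v : V, ρ g v = v → v = 0)
    (u : V) (hu : u ≠ 0) (hinv : ∀ g : G, ∃ c : ℂ, ρ g u = c • u) : False :=
  false_of_comm hperf (comm_of_invariant_line ρ hfpf u hu hinv)

end line

/-- **The two-dimensional case of Zassenhaus' theorem.** -/
theorem sl25_of_dim_two {G : Type*} [Group G] [Finite G] [Nontrivial G] (h : IsFPFdim G 2)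
    (hperf : commutator G = ⊤) :
    Nonempty (G ≃* Matrix.SpecialLinearGroup (Fin 2) (ZMod 5)) := by
  classical
  have hF : IsFPF G := h.isFPF
  obtain ⟨V, _, _, _, _, ρ, hdim, hfpf⟩ := h
  have hpos : 0 < finrank ℂ V := Module.finrank_pos
  have h2 : finrank ℂ V = 2 := by
    by_contra hne
    have h1 : finrank ℂ V = 1 := by omega
    obtain ⟨u, hu⟩ := exists_ne (0 : V)
    refine false_of_invariant_line hperf ρ hfpf u hu (fun g => ?_)
    obtain ⟨c, hc⟩ := (finrank_eq_one_iff_of_nonzero' u hu).mp h1 (ρ g u)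
    exact ⟨c, hc.symm⟩
  let ρ' : Representation ℂ G V := ρ
  have hirr : ρ'.IsIrreducible := by
    refine { exists_pair_ne := ⟨⊥, ⊤, fun hbt => ?_⟩, eq_bot_or_eq_top := fun U => ?_ }
    · have h' : (⊥ : Submodule ℂ V) = ⊤ := congrArg Subrepresentation.toSubmodule hbt
      exact bot_ne_top h'
    · have hle : finrank ℂ U.toSubmodule ≤ 2 := h2 ▸ Submodule.finrank_le _
      by_cases h0 : finrank ℂ U.toSubmodule = 0
      · left
        apply Subrepresentation.toSubmodule_injective
        exact Submodule.finrank_eq_zero.mp h0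
      by_cases h2' : finrank ℂ U.toSubmodule = 2
      · right
        apply Subrepresentation.toSubmodule_injective
        exact Submodule.eq_top_of_finrank_eq (h2'.trans h2.symm)
      exfalso
      have h1 : finrank ℂ U.toSubmodule = 1 := by omega
      obtain ⟨u, hu⟩ : ∃ u : U.toSubmodule, u ≠ 0 := by
        haveI : Nontrivial U.toSubmodule := Module.finrank_pos_iff (R := ℂ).mp (by omega)
        exact exists_ne 0
      refine false_of_invariant_line hperf ρ hfpf (u : V) (fun h => hu (Subtype.ext h))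
        (fun g => ?_)
      have hmem : ρ g u ∈ U.toSubmodule := U.apply_mem_toSubmodule g u.2
      obtain ⟨c, hc⟩ := (finrank_eq_one_iff_of_nonzero' u hu).mp h1 ⟨ρ g u, hmem⟩
      refine ⟨c, ?_⟩
      have := congrArg Subtype.val hc
      simpa using this.symm
  let e : V ≃ₗ[ℂ] (Fin 2 → ℂ) := (Module.finBasisOfFinrankEq ℂ V h2).equivFun
  let σ : Representation ℂ G (Fin 2 → ℂ) := Cfsg.Agent.Lib.L0.conjRep e ρ'
  haveI : σ.IsIrreducible := by
    haveI := hirr
    exact Cfsg.Agent.Lib.L0.isIrreducible_of_equiv (Cfsg.Agent.Lib.L0.conjRepEquiv e ρ')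
  have hρinj : Function.Injective ρ := rep_injective ρ hfpf
  have hσ : ∀ g, σ g = (e.conjAlgEquiv ℂ) (ρ g) := fun g => rfl
  have hσinj : Function.Injective σ := by
    intro a b hab
    rw [hσ, hσ] at hab
    exact hρinj ((e.conjAlgEquiv ℂ).injective hab)
  -- the central quotient
  have hQperf : commutator (G ⧸ center G) = ⊤ :=
    commutator_eq_top_of_surjective hperf (QuotientGroup.mk' _) (QuotientGroup.mk'_surjective _)
  have hsolv : Group.IsSolvable (G ⧸ center G) → False := by
    intro hs
    haveI := hs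
    haveI := subsingleton_of_perfect_solvable hQperf
    apply false_of_comm hperf
    intro a b
    have h1 : ((b : G) : G ⧸ center G) = 1 := Subsingleton.elim _ _
    rw [QuotientGroup.eq_one_iff] at h1
    exact ((Subgroup.mem_center_iff.mp h1) a)
  rcases center_quotient_cases σ hσinj with hc | ⟨n, ⟨e1⟩⟩ | ⟨⟨e1⟩⟩ | ⟨⟨e1⟩⟩ | ⟨⟨e1⟩⟩
  · haveI := hc
    exact (hsolv Cfsg.Agent.Lib.H5.PSL2Solvable.isSolvable_of_isCyclic).elim
  · haveI := Cfsg.Agent.Lib.H5.PSL2Solvable.isSolvable_dihedral n
    exact (hsolv (Cfsg.Agent.Lib.H5.PSL2Solvable.isSolvable_of_mulEquiv e1)).elim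
  · refine (hsolv (Cfsg.Agent.Lib.H5.PSL2Solvable.isSolvable_of_card_twelve ?_)).elim
    rw [Nat.card_congr e1.toEquiv, ← Nat.mul_right_inj (two_ne_zero),
      two_mul_nat_card_alternatingGroup, Nat.card_perm, Nat.card_fin]
    rfl
  · refine (hsolv (Cfsg.Agent.Lib.H5.PSL2Solvable.isSolvable_of_card_twentyfour ?_)).elim
    rw [Nat.card_congr e1.toEquiv, Nat.card_perm, Nat.card_fin]
    rfl
  -- the icosahedral case
  have hQ : Nat.card (G ⧸ center G) = 60 := by
    rw [Nat.card_congr e1.toEquiv, ← Nat.mul_right_inj (two_ne_zero),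
      two_mul_nat_card_alternatingGroup, Nat.card_perm, Nat.card_fin]
    rfl
  -- the determinant is trivial
  let δ : G →* ℂˣ := (Units.map (LinearMap.det : End ℂ (Fin 2 → ℂ) →* ℂ)).comp σ.toHomUnits
  have hδ : ∀ g : G, LinearMap.det (σ g) = 1 := by
    intro g
    have h1 : δ g = 1 := hom_eq_one_of_perfect_comm hperf δ g
    have h3 := congrArg Units.val h1
    exact h3
  -- central elements are `± 1`
  have hZ : ∀ z ∈ center G, z ≠ 1 → σ z = (-1 : ℂ) • 1 := by
    intro z hz hz1
    obtain ⟨c, hc⟩ := Cfsg.Agent.Lib.H23.exists_smul_of_mem_center σ hz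
    have h3 := hδ z
    rw [hc, LinearMap.det_smul, Module.finrank_fin_fun, map_one, mul_one] at h3
    have h4 : (c - 1) * (c + 1) = 0 := by linear_combination h3
    rcases mul_eq_zero.mp h4 with h5 | h5
    · exfalso
      apply hz1
      apply hσinj
      rw [hc, map_one, sub_eq_zero.mp h5, one_smul]
    · rw [hc, eq_neg_of_add_eq_zero_left h5]
  have hZcard : Nat.card (center G) ≤ 2 := by
    let f : center G → Fin 2 := fun z => if z = 1 then 0 else 1
    have hf : Function.Injective f := by
      intro a b hab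
      by_cases ha : a = 1
      · by_cases hb : b = 1
        · rw [ha, hb]
        · simp [f, ha, hb] at hab
      · by_cases hb : b = 1
        · simp [f, ha, hb] at hab
        · apply Subtype.ext
          apply hσinj
          rw [hZ a a.2 (fun h => ha (Subtype.ext h)), hZ b b.2 (fun h => hb (Subtype.ext h))]
    have := Nat.card_le_card_of_injective f hf
    simpa using this
  have hmul : Nat.card (center G) * 60 = Nat.card G := by
    rw [← hQ, ← Subgroup.index_eq_card]
    exact (center G).card_mul_index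
  have h8 := eight_dvd_card hF hperf
  have hZpos : 0 < Nat.card (center G) := Nat.card_pos
  have hcard : Nat.card G = 120 := by
    rw [← hmul] at h8 ⊢
    have : Nat.card (center G) = 1 ∨ Nat.card (center G) = 2 := by omega
    rcases this with h1 | h1
    · rw [h1] at h8; omega
    · rw [h1]
  have hns : ¬ Group.IsSolvable G := by
    intro hs
    haveI := hs
    haveI := subsingleton_of_perfect_solvable hperf
    exact false_of_comm hperf (fun a b => Subsingleton.elim _ _)
  refine Cfsg.Agent.S3378.result.1 G hcard hns (fun P => ?_)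
  obtain ⟨n, hn, ⟨e2⟩⟩ := sylow_two_quaternion hF hperf P
  have hc : Nat.card P = 4 * 2 ^ n := by
    haveI : NeZero (2 ^ n) := ⟨by positivity⟩
    rw [Nat.card_congr e2.toEquiv, Nat.card_eq_fintype_card, QuaternionGroup.card]
  have h1 : Nat.card P ∣ Nat.card G := Subgroup.card_subgroup_dvd_card _
  rw [hc, hcard] at h1
  have hn1 : n = 1 := by
    by_contra hne
    obtain ⟨m, rfl⟩ : ∃ m, n = m + 2 := ⟨n - 2, by omega⟩
    have : 16 ∣ 120 := by
      refine dvd_trans ?_ h1
      rw [pow_add]
      exact ⟨2 ^ m, by ring⟩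
    omega
  subst hn1
  rw [pow_one] at e2
  exact ⟨e2⟩

end Cfsg.Agent.Lib.H5.Zas
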