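import Mathlib

/-!
# A normal complement to a central Sylow `2`-subgroup of order two (helper5)
-/

set_option autoImplicit false

namespace Cfsg.Agent.Lib.H5.Zas

open Subgroup

/-- if the `2`-elements of a finite group `K` are `1` and a central element `z`, then `K` has a
subgroup `M` of odd order with `K = M ∪ M z` -/
theorem exists_odd_complement {K : Type*} [Group K] [Finite K] (z : K) (hzc : z ∈ center K)
    (h2 : ∀ (t : K) (k : ℕ), t ^ 2 ^ k = 1 → t = 1 ∨ t = z) :
    ∃ M : Subgroup K, (∀ c : K, ∃ m ∈ M, c = m ∨ c = m * z) ∧ ¬ 2 ∣ Nat.card M := by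
  haveI : Fact (Nat.Prime 2) := ⟨Nat.prime_two⟩
  obtain ⟨P⟩ : Nonempty (Sylow 2 K) := inferInstance
  have hPle : ∀ t : K, t ∈ (P : Subgroup K) → t = 1 ∨ t = z := by
    intro t ht
    obtain ⟨k, hk⟩ := P.2 ⟨t, ht⟩
    have hk' : t ^ 2 ^ k = 1 := by
      have := congrArg (fun u : (P : Subgroup K) => (u : K)) hk
      simpa using this
    exact h2 t k hk'
  have hcent : centralizer ((P : Subgroup K) : Set K) = ⊤ := by
    rw [eq_top_iff]
    intro c _
    rw [mem_centralizer_iff]
    intro t ht
    rcases hPle t ht with h | h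
    · rw [h, one_mul, mul_one]
    · rw [h]; exact ((mem_center_iff.mp hzc) c).symm
  have hP : normalizer ((P : Subgroup K) : Set K) ≤ centralizer ((P : Subgroup K) : Set K) := by
    rw [hcent]; exact le_top
  set M₀ : Subgroup K := (MonoidHom.transferSylow P hP).ker with hM₀
  have hcomp : IsComplement' M₀ (P : Subgroup K) := MonoidHom.ker_transferSylow_isComplement' P hP
  have hodd : ¬ 2 ∣ Nat.card M₀ := by
    have h1 := hcomp.card_mul_card
    have h2' := (P : Subgroup K).index_mul_card
    have h3 : Nat.card M₀ = (P : Subgroup K).index := by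
      have hpos : 0 < Nat.card (P : Subgroup K) := Nat.card_pos
      have : Nat.card M₀ * Nat.card (P : Subgroup K) =
          (P : Subgroup K).index * Nat.card (P : Subgroup K) := by rw [h1, h2']
      exact Nat.eq_of_mul_eq_mul_right hpos this
    rw [h3]
    exact P.not_dvd_index
  refine ⟨M₀, ?_, hodd⟩
  intro c
  obtain ⟨⟨m, t⟩, hmt⟩ := hcomp.2 c
  have hmt' : (m : K) * (t : K) = c := hmt
  refine ⟨(m : K), m.2, ?_⟩
  rcases hPle t t.2 with h | h
  · left; rw [← hmt', h, mul_one]
  · right; rw [← hmt', h]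

end Cfsg.Agent.Lib.H5.Zas
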