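import Mathlib

/-!
# The projection of a generalized quaternion group onto a dihedral group (helper5)

`Q_{4m} / ⟨a^m⟩ ≅ D_{2m}`, and a tool to identify images of subgroups.
-/

set_option autoImplicit false

namespace Cfsg.Agent.Lib.H5.Zas

open Subgroup

section quat

variable (m : ℕ) [NeZero m]

/-- reduction `ℤ/2m → ℤ/m` -/
noncomputable def redMod : ZMod (2 * m) →+* ZMod m := ZMod.castHom (dvd_mul_left m 2) (ZMod m)

theorem redMod_m : redMod m (m : ZMod (2 * m)) = 0 := by
  rw [map_natCast, ZMod.natCast_self]

theorem redMod_surjective : Function.Surjective (redMod m) := ZMod.ringHom_surjective _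

theorem redMod_eq_zero {i : ZMod (2 * m)} (h : redMod m i = 0) : i = 0 ∨ i = (m : ZMod (2 * m)) := by
  haveI : NeZero (2 * m) := ⟨by have := NeZero.ne m; omega⟩
  have h1 : (i.val : ZMod (2 * m)) = i := ZMod.natCast_zmod_val i
  have h2 : redMod m i = (i.val : ZMod m) := by
    conv_lhs => rw [← h1]
    rw [map_natCast]
  rw [h2, ZMod.natCast_eq_zero_iff] at h
  have h3 : i.val < 2 * m := ZMod.val_lt i
  obtain ⟨k, hk⟩ := h
  have hm : 0 < m := Nat.pos_of_ne_zero (NeZero.ne m)
  have hk2 : k < 2 := by
    by_contra hk2
    push Not at hk2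
    have : m * 2 ≤ m * k := Nat.mul_le_mul_left m hk2
    omega
  interval_cases k
  · left
    rw [← h1, hk, mul_zero, Nat.cast_zero]
  · right
    rw [← h1, hk, mul_one]

/-- the projection `Q_{4m} → D_{2m}` -/
noncomputable def quatToDih : QuaternionGroup m →* DihedralGroup m :=
  MonoidHom.mk'
    (fun x => match x with
      | .a i => DihedralGroup.r (redMod m i)
      | .xa i => DihedralGroup.sr (redMod m i))
    (by
      intro x y
      cases x with
      | a i =>
        cases y with
        | a j =>
          show DihedralGroup.r (redMod m (i + j)) = DihedralGroup.r _ * DihedralGroup.r _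
          rw [DihedralGroup.r_mul_r, map_add]
        | xa j =>
          show DihedralGroup.sr (redMod m (j - i)) = DihedralGroup.r _ * DihedralGroup.sr _
          rw [DihedralGroup.r_mul_sr, map_sub]
      | xa i =>
        cases y with
        | a j =>
          show DihedralGroup.sr (redMod m (i + j)) = DihedralGroup.sr _ * DihedralGroup.r _
          rw [DihedralGroup.sr_mul_r, map_add]
        | xa j =>
          show DihedralGroup.r (redMod m ((m : ZMod (2 * m)) + j - i)) =
            DihedralGroup.sr _ * DihedralGroup.sr _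
          rw [DihedralGroup.sr_mul_sr, map_sub, map_add, redMod_m, zero_add])

theorem quatToDih_a (i : ZMod (2 * m)) :
    quatToDih m (QuaternionGroup.a i) = DihedralGroup.r (redMod m i) := rfl

theorem quatToDih_xa (i : ZMod (2 * m)) :
    quatToDih m (QuaternionGroup.xa i) = DihedralGroup.sr (redMod m i) := rfl

theorem quatToDih_surjective : Function.Surjective (quatToDih m) := by
  intro y
  cases y with
  | r i =>
    obtain ⟨j, rfl⟩ := redMod_surjective m i
    exact ⟨QuaternionGroup.a j, rfl⟩
  | sr i =>
    obtain ⟨j, rfl⟩ := redMod_surjective m i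
    exact ⟨QuaternionGroup.xa j, rfl⟩

theorem quatToDih_eq_one_iff (x : QuaternionGroup m) :
    quatToDih m x = 1 ↔ x = 1 ∨ x = QuaternionGroup.a (m : ZMod (2 * m)) := by
  constructor
  · intro h
    cases x with
    | a i =>
      rw [quatToDih_a, DihedralGroup.one_def] at h
      have h1 : redMod m i = 0 := DihedralGroup.r.inj h
      rcases redMod_eq_zero m h1 with h2 | h2
      · left; rw [h2]; rfl
      · right; rw [h2]
    | xa i =>
      rw [quatToDih_xa, DihedralGroup.one_def] at h
      cases h
  · rintro (h | h)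
    · rw [h, map_one]
    · rw [h, quatToDih_a, redMod_m]; rfl

theorem quat_a_m_sq : (QuaternionGroup.a (m : ZMod (2 * m)) : QuaternionGroup m) *
    QuaternionGroup.a (m : ZMod (2 * m)) = 1 := by
  rw [QuaternionGroup.a_mul_a, QuaternionGroup.one_def]
  congr 1
  have : ((m : ZMod (2 * m)) + (m : ZMod (2 * m))) = ((2 * m : ℕ) : ZMod (2 * m)) := by
    push_cast; ring
  rw [this, ZMod.natCast_self]

theorem quat_a_m_ne_one : (QuaternionGroup.a (m : ZMod (2 * m)) : QuaternionGroup m) ≠ 1 := by
  intro h
  rw [QuaternionGroup.one_def] at h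
  have h1 : ((m : ℕ) : ZMod (2 * m)) = 0 := QuaternionGroup.a.inj h
  rw [ZMod.natCast_eq_zero_iff] at h1
  have hm : 0 < m := Nat.pos_of_ne_zero (NeZero.ne m)
  have := Nat.le_of_dvd hm h1
  omega

theorem orderOf_quat_a_m : orderOf (QuaternionGroup.a (m : ZMod (2 * m)) : QuaternionGroup m) = 2 := by
  haveI : Fact (Nat.Prime 2) := ⟨Nat.prime_two⟩
  apply orderOf_eq_prime
  · rw [pow_two]; exact quat_a_m_sq m
  · exact quat_a_m_ne_one m

end quat

/-- two surjective images of a group with the same kernel are isomorphic -/
theorem nonempty_mulEquiv_of_ker_eq {P A B : Type*} [Group P] [Group A] [Group B]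
    (f : P →* A) (g : P →* B) (hf : Function.Surjective f) (hg : Function.Surjective g)
    (hker : ∀ x : P, f x = 1 ↔ g x = 1) : Nonempty (A ≃* B) := by
  have h : f.ker = g.ker := by
    ext x
    rw [MonoidHom.mem_ker, MonoidHom.mem_ker]
    exact hker x
  exact ⟨(QuotientGroup.quotientKerEquivOfSurjective f hf).symm.trans
    ((QuotientGroup.quotientMulEquivOfEq h).trans
      (QuotientGroup.quotientKerEquivOfSurjective g hg))⟩

end Cfsg.Agent.Lib.H5.Zas
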