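import Mathlib
import Cfsg.Agent.Lib.H5.Zas.Perf
import Cfsg.Agent.S0016

/-!
# Zassenhaus' theorem: the involution, p-subgroups, the centre of quaternion groups (helper5)
-/

set_option autoImplicit false

namespace Cfsg.Agent.Lib.H5.Zas

open Subgroup Cfsg.Agent.Lib.H25.Zas

/-- a fixed-point-free group has at most one involution -/
theorem fpf_eq_of_orderOf_two {G : Type*} [Group G] (h : IsFPF G) {s t : G}
    (hs : orderOf s = 2) (ht : orderOf t = 2) : s = t := by
  obtain ⟨V, i1, i2, i3, i4, ρ, hρ⟩ := h
  apply rep_injective ρ hρ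
  rw [rep_of_orderOf_two ρ hρ hs, rep_of_orderOf_two ρ hρ ht]

/-- the involution of a fixed-point-free group is central -/
theorem fpf_orderOf_two_mem_center {G : Type*} [Group G] (h : IsFPF G) {z : G}
    (hz : orderOf z = 2) : z ∈ center G := by
  rw [mem_center_iff]
  intro g
  have h1 : orderOf (g * z * g⁻¹) = 2 := by
    rw [← hz, ← MulAut.conj_apply]
    exact (MulAut.conj g).orderOf_eq z
  have h2 := fpf_eq_of_orderOf_two h h1 hz
  calc g * z = (g * z * g⁻¹) * g := by group
    _ = z * g := by rw [h2]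

/-- the square of an element of order four is the involution -/
theorem fpf_sq_eq_of_orderOf_four {G : Type*} [Group G] (h : IsFPF G) {x z : G}
    (hx : orderOf x = 4) (hz : orderOf z = 2) : x * x = z := by
  have h2 : orderOf (x ^ 2) = 2 := by
    rw [orderOf_pow' x (by norm_num : (2 : ℕ) ≠ 0), hx]
    rfl
  rw [← pow_two]
  exact fpf_eq_of_orderOf_two h h2 hz

/-- every subgroup of even order contains the involution -/
theorem fpf_mem_of_even_card {G : Type*} [Group G] [Finite G] (h : IsFPF G) {z : G}
    (hz : orderOf z = 2) (K : Subgroup G) (hK : 2 ∣ Nat.card K) : z ∈ K := by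
  haveI : Fact (Nat.Prime 2) := ⟨Nat.prime_two⟩
  obtain ⟨t, ht⟩ := exists_prime_orderOf_dvd_card' (G := K) 2 hK
  have h1 : orderOf (t : G) = 2 := by rw [Subgroup.orderOf_coe]; exact ht
  rw [← fpf_eq_of_orderOf_two h h1 hz]
  exact t.2

/-- fixed-point-free `p`-groups are cyclic or generalized quaternion -/
theorem fpf_pgroup_cases {P : Type*} [Group P] [Finite P] (h : IsFPF P) (p : ℕ)
    [Fact p.Prime] (hP : IsPGroup p P) :
    IsCyclic P ∨ (p = 2 ∧ ∃ n : ℕ, Nonempty (P ≃* QuaternionGroup (2 ^ n))) :=
  Cfsg.Agent.S0016.result p hP (fun H K hH hK => h.unique_subgroup_of_pgroup p hP H K hH hK)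

/-- central elements of a generalized quaternion group of order at least `8` have square one -/
theorem quaternion_central_sq {m : ℕ} (hm : 2 ≤ m) (c : QuaternionGroup m)
    (hc : ∀ g : QuaternionGroup m, g * c = c * g) : c * c = 1 := by
  haveI : NeZero (2 * m) := ⟨by omega⟩
  cases c with
  | a i =>
    have h1 := hc (QuaternionGroup.xa 0)
    rw [QuaternionGroup.xa_mul_a, QuaternionGroup.a_mul_xa] at h1
    have h2 : (0 : ZMod (2 * m)) + i = 0 - i := QuaternionGroup.xa.inj h1
    rw [QuaternionGroup.a_mul_a, QuaternionGroup.one_def]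
    congr 1
    linear_combination h2
  | xa i =>
    exfalso
    have h1 := hc (QuaternionGroup.a 1)
    rw [QuaternionGroup.a_mul_xa, QuaternionGroup.xa_mul_a] at h1
    have h2 : i - 1 = i + 1 := QuaternionGroup.xa.inj h1
    have h3 : ((2 : ℕ) : ZMod (2 * m)) = 0 := by
      push_cast
      linear_combination -h2
    rw [ZMod.natCast_eq_zero_iff] at h3
    have := Nat.le_of_dvd (by norm_num) h3
    omega

end Cfsg.Agent.Lib.H5.Zas
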