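import Mathlib
import Cfsg.Agent.Lib.H5.Zas.Invol
import Cfsg.Agent.Lib.H22.CyclicSylow

/-!
# Zassenhaus' theorem: the centre of a perfect fixed-point-free group (helper5)

In a non-trivial perfect fixed-point-free group, abelian normal subgroups are central and the
centre has order two.
-/

set_option autoImplicit false

namespace Cfsg.Agent.Lib.H5.Zas

open Subgroup Cfsg.Agent.Lib.H25.Zas

variable {G : Type*} [Group G]

/-- a cyclic normal subgroup of a perfect group is central -/
theorem le_center_of_cyclic_normal (hperf : commutator G = ⊤) (A : Subgroup G) [A.Normal]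
    [IsCyclic A] : A ≤ center G := by
  intro a ha
  rw [mem_center_iff]
  intro g
  let f : G →* (ZMod (Nat.card A))ˣ :=
    (IsCyclic.mulAutMulEquiv A).toMonoidHom.comp (MulAut.conjNormal (H := A))
  have h1 : f g = 1 := hom_eq_one_of_perfect_comm hperf f g
  have h2 : (MulAut.conjNormal (H := A)) g = 1 := by
    apply (IsCyclic.mulAutMulEquiv A).injective
    rw [map_one]
    exact h1
  have h3 := congrArg (fun φ : MulAut A => ((φ ⟨a, ha⟩ : A) : G)) h2
  simp only [MulAut.conjNormal_apply, MulAut.one_apply] at h3
  calc g * a = (g * a * g⁻¹) * g := by group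
    _ = a * g := by rw [h3]

/-- an abelian normal subgroup of a perfect fixed-point-free group is central -/
theorem le_center_of_comm_normal [Finite G] (hF : IsFPF G) (hperf : commutator G = ⊤)
    (A : Subgroup G) [A.Normal] (hA : ∀ a ∈ A, ∀ b ∈ A, a * b = b * a) : A ≤ center G := by
  haveI : IsCyclic A := (hF.subgroup A).isCyclic_of_comm
    (fun a b => Subtype.ext (hA a a.2 b b.2))
  exact le_center_of_cyclic_normal hperf A

/-- central elements of odd prime order do not exist -/
theorem false_of_central_odd_prime [Finite G] (hF : IsFPF G) (hperf : commutator G = ⊤)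
    {p : ℕ} (hp : p.Prime) (hp2 : p ≠ 2) {c : G} (hc : c ∈ center G) (hcp : orderOf c = p) :
    False := by
  haveI := Fact.mk hp
  have hpg : IsPGroup p (zpowers c) := IsPGroup.of_card (n := 1) (by
    rw [Nat.card_zpowers, hcp, pow_one])
  obtain ⟨P, hP⟩ := hpg.exists_le_sylow
  have hcyc : IsCyclic (P : Subgroup G) := by
    rcases hF.sylow p P with h | ⟨h, -⟩
    · exact h
    · exact absurd h hp2
  have hc1 : c ≠ 1 := by
    intro h
    rw [h, orderOf_one] at hcp
    exact hp.one_lt.ne hcp
  refine Cfsg.Agent.Lib.H22.false_of_central_of_perfect P hcyc ⊤ ?_ le_top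
    (hP (mem_zpowers c)) hc1 ?_
  · rw [← commutator_def]; exact hperf
  · rw [coe_top, centralizer_univ]; exact hc

/-- the centre of a non-trivial perfect fixed-point-free group consists of `1` and the
involution -/
theorem center_le_zpowers [Finite G] [Nontrivial G] (hF : IsFPF G) (hperf : commutator G = ⊤)
    {z : G} (hz : orderOf z = 2) : center G ≤ zpowers z := by
  haveI : Fact (Nat.Prime 2) := ⟨Nat.prime_two⟩
  intro c hc
  have hn0 : orderOf c ≠ 0 := (orderOf_pos c).ne'
  -- the order of `c` is a power of `2`
  have hpow : orderOf c = 2 ^ (orderOf c).primeFactorsList.length := by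
    apply Nat.eq_prime_pow_of_unique_prime_dvd hn0
    intro p hp hpd
    by_contra hp2
    have h1 : orderOf (c ^ (orderOf c / p)) = p := orderOf_pow_orderOf_div hn0 hpd
    exact false_of_central_odd_prime hF hperf hp hp2 ((center G).pow_mem hc _) h1
  set k := (orderOf c).primeFactorsList.length with hk
  -- no central element of order four
  have hk1 : k ≤ 1 := by
    by_contra hk2
    push Not at hk2
    have hdvd : 4 ∣ orderOf c := by
      rw [hpow]
      obtain ⟨j, hj⟩ : ∃ j, k = j + 2 := ⟨k - 2, by omega⟩
      rw [hj]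
      exact ⟨2 ^ j, by ring⟩
    set d := c ^ (orderOf c / 4) with hd
    have hd4 : orderOf d = 4 := orderOf_pow_orderOf_div hn0 hdvd
    have hdc : d ∈ center G := (center G).pow_mem hc _
    have hpg : IsPGroup 2 (zpowers d) := IsPGroup.of_card (n := 2) (by
      rw [Nat.card_zpowers, hd4]; norm_num)
    obtain ⟨P, hP⟩ := hpg.exists_le_sylow
    obtain ⟨n, hn, ⟨e⟩⟩ := sylow_two_quaternion hF hperf P
    have hdP : d ∈ (P : Subgroup G) := hP (mem_zpowers d)
    have h2 : ∀ g : QuaternionGroup (2 ^ n), g * e ⟨d, hdP⟩ = e ⟨d, hdP⟩ * g := by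
      intro g
      obtain ⟨u, rfl⟩ := e.surjective g
      rw [← map_mul, ← map_mul]
      congr 1
      apply Subtype.ext
      exact (mem_center_iff.mp hdc) u
    have h2n : 2 ≤ 2 ^ n := by
      calc 2 = 2 ^ 1 := by norm_num
        _ ≤ 2 ^ n := Nat.pow_le_pow_right (by norm_num) hn
    have h3 := quaternion_central_sq h2n _ h2
    rw [← map_mul, ← map_one e] at h3
    have h4 := congrArg Subtype.val (e.injective h3)
    have h5 : d * d = 1 := h4
    have h6 : orderOf d ∣ 2 := orderOf_dvd_of_pow_eq_one (by rw [pow_two]; exact h5)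
    rw [hd4] at h6
    omega
  have hk' : k = 0 ∨ k = 1 := by omega
  rcases hk' with h0 | h1
  · rw [h0, pow_zero, orderOf_eq_one_iff] at hpow
    rw [hpow]; exact one_mem _
  · rw [h1, pow_one] at hpow
    rw [fpf_eq_of_orderOf_two hF hpow hz]
    exact mem_zpowers z

end Cfsg.Agent.Lib.H5.Zas
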