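import Mathlib
import Cfsg.Agent.Lib.H5.Zas.Basic
import Cfsg.Agent.Lib.H5.FC.Nonsolv1

/-!
# The derived chain of a subgroup, computed inside the ambient group (helper5)
-/

set_option autoImplicit false

namespace Cfsg.Agent.Lib.H5.Zas

open Subgroup

variable {G : Type*} [Group G]

/-- the derived chain of `N`, as subgroups of the ambient group -/
def dser (N : Subgroup G) : ℕ → Subgroup G
  | 0 => N
  | (k + 1) => ⁅dser N k, dser N k⁆

@[simp] theorem dser_zero (N : Subgroup G) : dser N 0 = N := rfl

theorem dser_succ (N : Subgroup G) (k : ℕ) : dser N (k + 1) = ⁅dser N k, dser N k⁆ := rfl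

theorem dser_normal (N : Subgroup G) [hN : N.Normal] (k : ℕ) : (dser N k).Normal := by
  induction k with
  | zero => exact hN
  | succ k ih =>
    rw [dser_succ]
    haveI := ih
    infer_instance

theorem commutator_self_le (H : Subgroup G) : ⁅H, H⁆ ≤ H := by
  rw [commutator_le]
  intro a ha b hb
  exact H.mul_mem (H.mul_mem (H.mul_mem ha hb) (H.inv_mem ha)) (H.inv_mem hb)

theorem dser_succ_le (N : Subgroup G) (k : ℕ) : dser N (k + 1) ≤ dser N k :=
  commutator_self_le _

theorem dser_le (N : Subgroup G) (k : ℕ) : dser N k ≤ N := by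
  induction k with
  | zero => exact le_rfl
  | succ k ih => exact (dser_succ_le N k).trans ih

theorem dser_succ' (N : Subgroup G) (k : ℕ) : dser N (k + 1) = dser ⁅N, N⁆ k := by
  induction k with
  | zero => rfl
  | succ k ih => rw [dser_succ, ih, ← dser_succ]

theorem dser_eq_map (N : Subgroup G) (k : ℕ) :
    dser N k = (derivedSeries N k).map N.subtype := by
  induction k with
  | zero =>
    rw [dser_zero, derivedSeries_zero, ← MonoidHom.range_eq_map, Subgroup.range_subtype]
  | succ k ih =>
    rw [dser_succ, derivedSeries_succ, Subgroup.map_commutator, ih]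

theorem isSolvable_iff_dser (N : Subgroup G) : Group.IsSolvable N ↔ ∃ k, dser N k = ⊥ := by
  rw [Group.isSolvable_def]
  constructor
  · rintro ⟨k, hk⟩
    exact ⟨k, by rw [dser_eq_map, hk, Subgroup.map_bot]⟩
  · rintro ⟨k, hk⟩
    refine ⟨k, ?_⟩
    rw [dser_eq_map] at hk
    exact (Subgroup.map_eq_bot_iff_of_injective _ N.subtype_injective).mp hk

/-- the derived chain of a finite group becomes stationary -/
theorem exists_dser_stable [Finite G] (N : Subgroup G) : ∃ k, dser N (k + 1) = dser N k := by
  by_contra h
  push Not at h
  have hlt : ∀ n, Nat.card (dser N (n + 1)) < Nat.card (dser N n) := by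
    intro n
    by_contra hge
    push Not at hge
    exact h n (eq_of_le_of_card_ge (dser_succ_le N n) hge)
  have hbound : ∀ n, Nat.card (dser N n) + n ≤ Nat.card (dser N 0) := by
    intro n
    induction n with
    | zero => simp
    | succ n ih =>
      have := hlt n
      omega
  have h0 : Nat.card (dser N 0) ≤ Nat.card G := Subgroup.card_le_card_group _
  have := hbound (Nat.card G + 1)
  omega

/-- a subgroup is solvable or contains a non-trivial perfect subgroup, normal if it is normal -/
theorem solvable_or_exists_perfect [Finite G] (N : Subgroup G) :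
    Group.IsSolvable N ∨ ∃ k, dser N k ≠ ⊥ ∧ commutator (dser N k) = ⊤ := by
  obtain ⟨k, hk⟩ := exists_dser_stable N
  by_cases hb : dser N k = ⊥
  · left
    exact (isSolvable_iff_dser N).mpr ⟨k, hb⟩
  · right
    refine ⟨k, hb, ?_⟩
    apply Cfsg.Agent.Lib.H5.FC.commutator_eq_top_of_self
    rw [← dser_succ, hk]

/-- the image of the derived chain under a homomorphism -/
theorem map_dser {H : Type*} [Group H] (f : G →* H) (N : Subgroup G) (k : ℕ) :
    (dser N k).map f = dser (N.map f) k := by
  induction k with
  | zero => rfl
  | succ k ih => rw [dser_succ, Subgroup.map_commutator, ih, ← dser_succ]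

/-- the derived chain of a perfect subgroup is constant -/
theorem dser_of_perfect (M : Subgroup G) (hM : commutator M = ⊤) (k : ℕ) : dser M k = M := by
  have h1 : ⁅M, M⁆ = M := by
    have h2 := Subgroup.map_subtype_commutator M
    rw [hM, ← MonoidHom.range_eq_map, Subgroup.range_subtype] at h2
    exact h2.symm
  induction k with
  | zero => rfl
  | succ k ih => rw [dser_succ, ih, h1]

end Cfsg.Agent.Lib.H5.Zas
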