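import Mathlib
import Cfsg.Agent.Lib.H5.Zas.Invol
import Cfsg.Agent.Lib.H5.Zas.Dser
import Cfsg.Agent.Lib.H5.FC.Nonsolv4

/-!
# Zassenhaus' theorem: the minimal counterexample, proper normal subgroups are solvable (helper5)
-/

set_option autoImplicit false

namespace Cfsg.Agent.Lib.H5.Zas

open Subgroup Cfsg.Agent.Lib.H25.Zas Cfsg.Agent.Lib.H5.FC

universe u

/-- a minimal counterexample to Zassenhaus' theorem -/
structure MinCE (G : Type u) [Group G] : Prop where
  fin : Finite G
  fpf : IsFPF G
  perf : commutator G = ⊤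
  nontriv : Nontrivial G
  notSL : ¬ Nonempty (G ≃* SL25)
  ih : ∀ S : Subgroup G, S ≠ ⊤ → S ≠ ⊥ → commutator S = ⊤ → Nonempty (S ≃* SL25)

/-- a perfect fixed-point-free group with a normal subgroup `S ≅ SL₂(5)` is equal to `S` -/
theorem eq_top_of_normal_sl25 {G : Type*} [Group G] [Finite G] (hF : IsFPF G)
    (hperf : commutator G = ⊤) (S : Subgroup G) [hS : S.Normal] (e : S ≃* SL25)
    (hSperf' : commutator S = ⊤) : S = ⊤ := by
  haveI : Fact (Nat.Prime 2) := ⟨Nat.prime_two⟩
  let d : SLData G := ⟨abCyc_of_isFPF hF, S, hS, e⟩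
  have hSperf : commutator d.S = ⊤ := hSperf'
  have hsup : d.S ⊔ d.C = ⊤ := by
    rcases d.index_sup hSperf with h | h
    · exact index_eq_one.mp h
    · exact absurd h (index_ne_two_of_perfect hperf _)
  -- `C` is solvable
  have hCF : IsFPF d.C := hF.subgroup d.C
  obtain ⟨P⟩ : Nonempty (Sylow 2 d.C) := inferInstance
  have hPcyc : IsCyclic (P : Subgroup d.C) := by
    have hle : (P : Subgroup d.C).map d.C.subtype ≤ zpowers d.z := by
      rintro _ ⟨t, ht, rfl⟩
      obtain ⟨k, hk⟩ := P.2 ⟨t, ht⟩
      have hk' : (t : G) ^ 2 ^ k = 1 := by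
        have := congrArg (fun u : (P : Subgroup d.C) => ((u : d.C) : G)) hk
        simpa using this
      rcases d.two_elt_C t.2 hk' with h | h
      · rw [Subgroup.subtype_apply, h]; exact one_mem _
      · rw [Subgroup.subtype_apply, h]; exact mem_zpowers _
    haveI : IsCyclic ((P : Subgroup d.C).map d.C.subtype) := Subgroup.isCyclic_of_le hle
    exact isCyclic_of_injective
      ((P : Subgroup d.C).equivMapOfInjective d.C.subtype d.C.subtype_injective).toMonoidHom
      ((P : Subgroup d.C).equivMapOfInjective d.C.subtype d.C.subtype_injective).injective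
  haveI := isZGroup_of_cyclic_sylow_two hCF P hPcyc
  haveI : Group.IsSolvable d.C := inferInstance
  -- `G ⧸ S` is a quotient of `C`
  let f : d.C →* G ⧸ S := (QuotientGroup.mk' S).comp d.C.subtype
  have hf : Function.Surjective f := by
    rw [← MonoidHom.range_eq_top, MonoidHom.range_comp, Subgroup.range_subtype]
    have h1 : (d.S ⊔ d.C).map (QuotientGroup.mk' S) = ⊤ := by
      rw [hsup, ← MonoidHom.range_eq_map]
      exact MonoidHom.range_eq_top.mpr (QuotientGroup.mk'_surjective S)
    rw [Subgroup.map_sup] at h1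
    have h2 : d.S.map (QuotientGroup.mk' S) = ⊥ := QuotientGroup.map_mk'_self S
    rw [h2, bot_sup_eq] at h1
    exact h1
  haveI : Group.IsSolvable (G ⧸ S) := Group.isSolvable_of_surjective hf
  have hQperf : commutator (G ⧸ S) = ⊤ :=
    commutator_eq_top_of_surjective hperf (QuotientGroup.mk' S) (QuotientGroup.mk'_surjective S)
  haveI := subsingleton_of_perfect_solvable hQperf
  rw [eq_top_iff]
  intro g _
  have h1 : ((g : G) : G ⧸ S) = 1 := Subsingleton.elim _ _
  exact (QuotientGroup.eq_one_iff g).mp h1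

namespace MinCE

variable {G : Type u} [Group G] (m : MinCE G)

include m

/-- in a minimal counterexample, proper normal subgroups are solvable -/
theorem isSolvable_of_normal (N : Subgroup G) [N.Normal] (hN : N ≠ ⊤) : Group.IsSolvable N := by
  haveI := m.fin
  rcases solvable_or_exists_perfect N with h | ⟨k, hk, hperf⟩
  · exact h
  exfalso
  haveI := dser_normal N k
  have hne : dser N k ≠ ⊤ := by
    intro h
    apply hN
    rw [eq_top_iff, ← h]
    exact dser_le N k
  obtain ⟨e⟩ := m.ih (dser N k) hne hk hperf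
  exact hne (eq_top_of_normal_sl25 m.fpf m.perf (dser N k) e hperf)

end MinCE

end Cfsg.Agent.Lib.H5.Zas
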