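import Mathlib
import Cfsg.Agent.Lib.H5.Zas.Center
import Cfsg.Agent.Lib.H5.Zas.MinCE
import Cfsg.Agent.S3742

/-!
# Zassenhaus' theorem: solvable normal subgroups are central; `G / ⟨z⟩` is simple (helper5)
-/

set_option autoImplicit false

namespace Cfsg.Agent.Lib.H5.Zas

open Subgroup Cfsg.Agent.Lib.H25.Zas Cfsg.Agent.Lib.H5.FC

universe u

section general

variable {G : Type*} [Group G]

theorem isSolvable_perm_four : Group.IsSolvable (Equiv.Perm (Fin 4)) := by
  apply isSolvable_of_card_lt_sixty 24 (Equiv.Perm (Fin 4))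
  · rw [Nat.card_perm, Nat.card_fin]; rfl
  · rw [Nat.card_perm, Nat.card_fin]
    show Nat.factorial 4 < 60
    decide

/-- a normal subgroup isomorphic to `Q₈` of a perfect group is central -/
theorem le_center_of_normal_q8 (hperf : commutator G = ⊤) (N : Subgroup G) [N.Normal]
    (e : N ≃* QuaternionGroup 2) : N ≤ center G := by
  obtain ⟨e2⟩ := Cfsg.Agent.S3742.result
  haveI := isSolvable_perm_four
  let f : G →* Equiv.Perm (Fin 4) :=
    e2.toMonoidHom.comp ((MulAut.congr e).toMonoidHom.comp (MulAut.conjNormal (H := N)))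
  intro a ha
  rw [mem_center_iff]
  intro g
  have h1 : f g = 1 := hom_eq_one_of_perfect_solvable hperf f g
  have h2 : (MulAut.conjNormal (H := N)) g = 1 := by
    apply (MulAut.congr e).injective
    apply e2.injective
    rw [map_one, map_one]
    exact h1
  have h3 := congrArg (fun φ : MulAut N => ((φ ⟨a, ha⟩ : N) : G)) h2
  simp only [MulAut.conjNormal_apply, MulAut.one_apply] at h3
  calc g * a = (g * a * g⁻¹) * g := by group
    _ = a * g := by rw [h3]

/-- a normal subgroup whose derived subgroup lies in `⟨z⟩` lies in `⟨z⟩` -/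
theorem normal_le_of_commutator_le [Finite G] [Nontrivial G] (hF : IsFPF G)
    (hperf : commutator G = ⊤) {z : G} (hz : orderOf z = 2) (N : Subgroup G) [hNn : N.Normal]
    (hN : ⁅N, N⁆ ≤ zpowers z) : N ≤ zpowers z := by
  haveI : Fact (Nat.Prime 2) := ⟨Nat.prime_two⟩
  have hZc : zpowers z ≤ center G := zpowers_le.mpr (fpf_orderOf_two_mem_center hF hz)
  have hcen := center_le_zpowers hF hperf hz
  have step1 : ∀ A : Subgroup G, A.Normal → (∀ a ∈ A, ∀ b ∈ A, a * b = b * a) →
      A ≤ zpowers z := fun A hA hc => by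
    haveI := hA
    exact (le_center_of_comm_normal hF hperf A hc).trans hcen
  have hsq : ∀ c ∈ zpowers z, c * c = 1 := by
    intro c hc
    have h1 : orderOf c ∣ 2 := hz ▸ orderOf_dvd_of_mem_zpowers hc
    rw [← pow_two]
    exact orderOf_dvd_iff_pow_eq_one.mp h1
  set W := N ⊓ centralizer (N : Set G) with hWdef
  have hWn : W.Normal := inferInstance
  have hW : W ≤ zpowers z := step1 W hWn (fun a ha b hb =>
    (mem_centralizer_iff.mp hb.2 a ha.1))
  have hsqW : ∀ x ∈ N, x * x ∈ W := by
    intro x hx
    refine ⟨N.mul_mem hx hx, ?_⟩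
    show x * x ∈ centralizer (N : Set G)
    rw [mem_centralizer_iff]
    intro b hb
    set c := x * b * x⁻¹ * b⁻¹ with hc
    have hcz : c ∈ zpowers z := hN (by
      have := Subgroup.commutator_mem_commutator hx hb
      rwa [commutatorElement_def] at this)
    have hxb : x * b = c * b * x := by rw [hc]; group
    have hcc : ∀ g, g * c = c * g := mem_center_iff.mp (hZc hcz)
    calc b * (x * x) = (c * c) * b * x * x := by rw [hsq c hcz, one_mul]; group
      _ = c * (c * b * x) * x := by group
      _ = c * (x * b) * x := by rw [hxb]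
      _ = (c * x) * b * x := by group
      _ = (x * c) * b * x := by rw [hcc x]
      _ = x * (c * b * x) := by group
      _ = x * (x * b) := by rw [← hxb]
      _ = (x * x) * b := by group
  have h4 : ∀ x ∈ N, x ^ 4 = 1 := by
    intro x hx
    have := hsq _ (hW (hsqW x hx))
    calc x ^ 4 = (x * x) * (x * x) := by
          rw [show (4 : ℕ) = 2 + 2 from rfl, pow_add, pow_two]
      _ = 1 := this
  have hpg : IsPGroup 2 N := by
    intro g
    refine ⟨2, ?_⟩
    apply Subtype.ext
    have := h4 g g.2
    simpa using this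
  have hcomm_of_cyclic : IsCyclic N → N ≤ zpowers z := by
    intro hc
    apply step1 N hNn
    intro a ha b hb
    letI : CommGroup N := IsCyclic.commGroup
    have := mul_comm (⟨a, ha⟩ : N) ⟨b, hb⟩
    exact congrArg Subtype.val this
  rcases fpf_pgroup_cases (hF.subgroup N) 2 hpg with hc | ⟨-, n, ⟨e⟩⟩
  · exact hcomm_of_cyclic hc
  · -- exponent four forces `n ≤ 1`
    have h5 : (QuaternionGroup.a 1 : QuaternionGroup (2 ^ n)) ^ 4 = 1 := by
      have h6 := h4 _ (e.symm (QuaternionGroup.a 1)).2
      have h7 : (e.symm (QuaternionGroup.a 1)) ^ 4 = 1 := Subtype.ext (by simpa using h6)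
      rw [← map_pow, ← map_one e.symm] at h7
      exact e.symm.injective h7
    have h8 : 2 * 2 ^ n ∣ 4 := by
      rw [← QuaternionGroup.orderOf_a_one (n := 2 ^ n)]
      exact orderOf_dvd_of_pow_eq_one h5
    have hn : n = 0 ∨ n = 1 := by
      by_contra hne
      obtain ⟨j, rfl⟩ : ∃ j, n = j + 2 := ⟨n - 2, by omega⟩
      have : 8 ∣ 4 := dvd_trans ⟨2 ^ j, by ring⟩ h8
      omega
    rcases hn with rfl | rfl
    · apply hcomm_of_cyclic
      haveI := QuaternionGroup.quaternionGroup_one_isCyclic
      rw [pow_zero] at e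
      exact isCyclic_of_surjective e.symm e.symm.surjective
    · rw [pow_one] at e
      exact (le_center_of_normal_q8 hperf N e).trans hcen

end general

namespace MinCE

variable {G : Type u} [Group G] (m : MinCE G)

include m

/-- in a minimal counterexample, a solvable normal subgroup lies in `⟨z⟩` -/
theorem normal_le_of_dser {z : G} (hz : orderOf z = 2) :
    ∀ (k : ℕ) (N : Subgroup G), N.Normal → dser N k = ⊥ → N ≤ zpowers z := by
  haveI := m.fin
  haveI := m.nontriv
  intro k
  induction k with
  | zero =>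
    intro N _ h
    rw [dser_zero] at h
    rw [h]; exact bot_le
  | succ k ih =>
    intro N hN h
    haveI := hN
    rw [dser_succ'] at h
    have h1 : ⁅N, N⁆ ≤ zpowers z := ih ⁅N, N⁆ inferInstance h
    exact normal_le_of_commutator_le m.fpf m.perf hz N h1

/-- in a minimal counterexample, a proper normal subgroup lies in `⟨z⟩` -/
theorem normal_le {z : G} (hz : orderOf z = 2) (N : Subgroup G) [hN : N.Normal] (hNt : N ≠ ⊤) :
    N ≤ zpowers z := by
  haveI := m.isSolvable_of_normal N hNt
  obtain ⟨k, hk⟩ := (isSolvable_iff_dser N).mp inferInstance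
  exact m.normal_le_of_dser hz k N hN hk

end MinCE

end Cfsg.Agent.Lib.H5.Zas
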