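import Mathlib
import Cfsg.Agent.Lib.H5.Zas.Simple
import Cfsg.Agent.Lib.H5.Zas.QuatDih
import Cfsg.Agent.Lib.H5.Zas.Compl

/-!
# Zassenhaus' theorem: the quotient `G / ⟨z⟩` of a minimal counterexample, part 1 (helper5)

Simplicity, Sylow `2`-subgroups, subgroups of odd order.
-/

set_option autoImplicit false

namespace Cfsg.Agent.Lib.H5.Zas

open Subgroup Cfsg.Agent.Lib.H25.Zas Cfsg.Agent.Lib.H5.FC

universe u

namespace MinCE

variable {G : Type u} [Group G] (m : MinCE G) {z : G} (hz : orderOf z = 2)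
  (Z : Subgroup G) [Z.Normal] (hZ : Z = zpowers z)

include m hz hZ

theorem mem_Z_iff {g : G} : g ∈ Z ↔ g = 1 ∨ g = z := by
  haveI : Fact (Nat.Prime 2) := ⟨Nat.prime_two⟩
  constructor
  · intro hg
    rw [hZ] at hg
    have h1 : orderOf g ∣ 2 := hz ▸ orderOf_dvd_of_mem_zpowers hg
    by_cases h : g = 1
    · left; exact h
    · right
      have h2 : orderOf g = 2 := orderOf_eq_prime (orderOf_dvd_iff_pow_eq_one.mp h1) h
      exact fpf_eq_of_orderOf_two m.fpf h2 hz
  · rintro (h | h)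
    · rw [h]; exact one_mem _
    · rw [h, hZ]; exact mem_zpowers z

theorem z_mem_Z : z ∈ Z := (m.mem_Z_iff hz Z hZ).mpr (Or.inr rfl)

theorem z_sq : z * z = 1 := by
  rw [← pow_two, ← hz]; exact pow_orderOf_eq_one z

theorem z_ne_one : z ≠ 1 := by
  intro h
  rw [h, orderOf_one] at hz
  omega

theorem Z_le_center : Z ≤ center G := by
  rw [hZ, zpowers_le]
  exact fpf_orderOf_two_mem_center m.fpf hz

theorem Z_ne_top : Z ≠ ⊤ := by
  haveI := m.fin
  haveI := m.nontriv
  have h8 := eight_dvd_card m.fpf m.perf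
  intro h
  have h1 : Nat.card Z = Nat.card G := by rw [h, Subgroup.card_top]
  rw [hZ, Nat.card_zpowers, hz] at h1
  rw [← h1] at h8
  omega

/-- `G / ⟨z⟩` is simple -/
theorem quot_simple : IsSimpleGroup (G ⧸ Z) := by
  haveI := m.fin
  have hsurj := QuotientGroup.mk'_surjective Z
  have hnt : Nontrivial (G ⧸ Z) := by
    obtain ⟨g, hg⟩ : ∃ g, g ∉ Z := by
      by_contra h
      push Not at h
      exact m.Z_ne_top hz Z hZ (eq_top_iff.mpr fun g _ => h g)
    exact ⟨(g : G ⧸ Z), 1, fun h => hg ((QuotientGroup.eq_one_iff g).mp h)⟩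
  refine { toNontrivial := hnt, eq_bot_or_eq_top_of_normal := ?_ }
  intro N hN
  haveI := hN
  have hNN : (N.comap (QuotientGroup.mk' Z)).map (QuotientGroup.mk' Z) = N :=
    Subgroup.map_comap_eq_self_of_surjective hsurj N
  by_cases hN' : N.comap (QuotientGroup.mk' Z) = ⊤
  · right
    rw [← hNN, hN', ← MonoidHom.range_eq_map]
    exact MonoidHom.range_eq_top.mpr hsurj
  · left
    have h1 : N.comap (QuotientGroup.mk' Z) ≤ zpowers z :=
      m.normal_le hz (N.comap (QuotientGroup.mk' Z)) hN'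
    rw [← hNN, eq_bot_iff]
    calc (N.comap (QuotientGroup.mk' Z)).map (QuotientGroup.mk' Z)
        ≤ Z.map (QuotientGroup.mk' Z) := Subgroup.map_mono (hZ ▸ h1)
      _ = ⊥ := QuotientGroup.map_mk'_self Z

/-- the Sylow `2`-subgroups of `G / ⟨z⟩` are dihedral -/
theorem quot_syl : ∃ (S : Sylow 2 (G ⧸ Z)) (n : ℕ), 2 ≤ n ∧
    Nonempty ((S : Subgroup (G ⧸ Z)) ≃* DihedralGroup n) := by
  haveI := m.fin
  haveI := m.nontriv
  haveI : Fact (Nat.Prime 2) := ⟨Nat.prime_two⟩
  obtain ⟨P⟩ : Nonempty (Sylow 2 G) := inferInstance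
  obtain ⟨n, hn, ⟨e⟩⟩ := sylow_two_quaternion m.fpf m.perf P
  have h2n : 2 ≤ 2 ^ n := by
    calc 2 = 2 ^ 1 := by norm_num
      _ ≤ 2 ^ n := Nat.pow_le_pow_right (by norm_num) hn
  haveI : NeZero (2 ^ n) := ⟨by positivity⟩
  have hsurj := QuotientGroup.mk'_surjective Z
  refine ⟨P.mapSurjective hsurj, 2 ^ n, h2n, ?_⟩
  rw [Sylow.coe_mapSurjective]
  have hcP : Nat.card P = 4 * 2 ^ n := by
    rw [Nat.card_congr e.toEquiv, Nat.card_eq_fintype_card, QuaternionGroup.card]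
  have hzP : z ∈ (P : Subgroup G) :=
    fpf_mem_of_even_card m.fpf hz P (by rw [hcP]; exact ⟨2 * 2 ^ n, by ring⟩)
  -- `e z = a^m`
  have hez : e ⟨z, hzP⟩ = QuaternionGroup.a ((2 ^ n : ℕ) : ZMod (2 * 2 ^ n)) := by
    have h1 : orderOf (e.symm (QuaternionGroup.a ((2 ^ n : ℕ) : ZMod (2 * 2 ^ n)))) = 2 := by
      rw [e.symm.orderOf_eq]
      exact orderOf_quat_a_m (2 ^ n)
    have h2 : orderOf ((e.symm (QuaternionGroup.a ((2 ^ n : ℕ) : ZMod (2 * 2 ^ n))) :
        (P : Subgroup G)) : G) = 2 := by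
      rw [Subgroup.orderOf_coe]; exact h1
    have h3 := fpf_eq_of_orderOf_two m.fpf h2 hz
    have h4 : e.symm (QuaternionGroup.a ((2 ^ n : ℕ) : ZMod (2 * 2 ^ n))) = ⟨z, hzP⟩ :=
      Subtype.ext h3
    rw [← h4, MulEquiv.apply_symm_apply]
  let f : (P : Subgroup G) →* (P : Subgroup G).map (QuotientGroup.mk' Z) :=
    (QuotientGroup.mk' Z).subgroupMap P
  let g : (P : Subgroup G) →* DihedralGroup (2 ^ n) := (quatToDih (2 ^ n)).comp e.toMonoidHom
  apply nonempty_mulEquiv_of_ker_eq f g (MonoidHom.subgroupMap_surjective _ _)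
    ((quatToDih_surjective (2 ^ n)).comp e.surjective)
  intro x
  have hf : f x = 1 ↔ (x : G) ∈ Z := by
    rw [← QuotientGroup.eq_one_iff, Subtype.ext_iff]
    rfl
  have hg : g x = 1 ↔ e x = 1 ∨ e x = QuaternionGroup.a ((2 ^ n : ℕ) : ZMod (2 * 2 ^ n)) :=
    quatToDih_eq_one_iff (2 ^ n) (e x)
  rw [hf, hg, m.mem_Z_iff hz Z hZ]
  constructor
  · rintro (h | h)
    · left
      have : x = 1 := Subtype.ext h
      rw [this, map_one]
    · right
      have : x = ⟨z, hzP⟩ := Subtype.ext h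
      rw [this, hez]
  · rintro (h | h)
    · left
      have : x = 1 := e.injective (by rw [h, map_one])
      rw [this]; rfl
    · right
      have : x = ⟨z, hzP⟩ := e.injective (by rw [h, hez])
      rw [this]

/-- subgroups of odd order of `G / ⟨z⟩` are fixed-point-free -/
theorem quot_odd (R : Subgroup (G ⧸ Z)) (hR : Odd (Nat.card R)) : IsFPF R := by
  haveI := m.fin
  have hsurj := QuotientGroup.mk'_surjective Z
  set K := R.comap (QuotientGroup.mk' Z) with hK
  have hπz : (QuotientGroup.mk' Z) z = 1 :=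
    (QuotientGroup.eq_one_iff z).mpr (m.z_mem_Z hz Z hZ)
  have hzK : z ∈ K := by
    show (QuotientGroup.mk' Z) z ∈ R
    rw [hπz]; exact one_mem _
  let θ : K →* R := ((QuotientGroup.mk' Z).comp K.subtype).codRestrict R (fun k => k.2)
  have hθ : ∀ k : K, ((θ k : R) : G ⧸ Z) = (QuotientGroup.mk' Z) (k : G) := fun k => rfl
  have hθker : ∀ k : K, θ k = 1 → (k : G) = 1 ∨ (k : G) = z := by
    intro k hk
    have h1 : (QuotientGroup.mk' Z) (k : G) = 1 := by
      rw [← hθ, hk]; rfl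
    exact (m.mem_Z_iff hz Z hZ).mp ((QuotientGroup.eq_one_iff _).mp h1)
  have h2 : ∀ (t : K) (k : ℕ), t ^ 2 ^ k = 1 → t = 1 ∨ t = ⟨z, hzK⟩ := by
    intro t k ht
    have h3 : (θ t) ^ 2 ^ k = 1 := by rw [← map_pow, ht, map_one]
    have h4 : orderOf (θ t) ∣ 2 ^ k := orderOf_dvd_of_pow_eq_one h3
    have h5 : orderOf (θ t) ∣ Nat.card R := orderOf_dvd_natCard _
    have h6 : orderOf (θ t) = 1 := by
      have hcop : Nat.Coprime (2 ^ k) (Nat.card R) :=
        Nat.Coprime.pow_left k (Nat.coprime_two_left.mpr hR)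
      exact Nat.eq_one_of_dvd_coprimes hcop h4 h5
    rcases hθker t (orderOf_eq_one_iff.mp h6) with h | h
    · left; exact Subtype.ext h
    · right; exact Subtype.ext h
  have hzc : (⟨z, hzK⟩ : K) ∈ center K := by
    rw [mem_center_iff]
    intro k
    apply Subtype.ext
    exact mem_center_iff.mp (m.Z_le_center hz Z hZ (m.z_mem_Z hz Z hZ)) k
  obtain ⟨M, hM, hodd⟩ := exists_odd_complement (⟨z, hzK⟩ : K) hzc h2
  let ψ : M →* R := θ.comp M.subtype
  have hψinj : Function.Injective ψ := by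
    rw [injective_iff_map_eq_one]
    intro x hx
    rcases hθker (x : K) hx with h | h
    · apply Subtype.ext
      apply Subtype.ext
      exact h
    · exfalso
      apply hodd
      have h1 : orderOf ((x : K) : G) = 2 := by rw [h]; exact hz
      rw [Subgroup.orderOf_coe, Subgroup.orderOf_coe] at h1
      rw [← h1]
      exact orderOf_dvd_natCard _
  have hθz : θ ⟨z, hzK⟩ = 1 := by
    apply Subtype.ext
    rw [hθ]
    exact hπz
  have hψsurj : Function.Surjective ψ := by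
    rintro ⟨r, hr⟩
    obtain ⟨g, rfl⟩ := hsurj r
    obtain ⟨x, hx, h | h⟩ := hM ⟨g, hr⟩
    · refine ⟨⟨x, hx⟩, ?_⟩
      apply Subtype.ext
      show ((θ x : R) : G ⧸ Z) = _
      rw [← h]
      rfl
    · refine ⟨⟨x, hx⟩, ?_⟩
      have h1 : θ ⟨g, hr⟩ = θ x := by rw [h, map_mul, hθz, mul_one]
      apply Subtype.ext
      show ((θ x : R) : G ⧸ Z) = _
      rw [← h1]
      rfl
  have hMF : IsFPF M := (m.fpf.subgroup K).subgroup M
  exact hMF.of_mulEquiv (MulEquiv.ofBijective ψ ⟨hψinj, hψsurj⟩).symm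

end MinCE

end Cfsg.Agent.Lib.H5.Zas
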