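import Mathlib
import Cfsg.Agent.Lib.H5.Zas.Quot1
import Cfsg.Agent.Lib.H5.Zas.Dim2b
import Cfsg.Agent.Lib.H25.ZasHyp
import Cfsg.Agent.S0253

/-!
# Zassenhaus' theorem: the quotient `G / ⟨z⟩` of a minimal counterexample, part 2 (helper5)

Proper perfect subgroups are `A₅`; two elements of orders `2|3` and `3` do not generate.
-/

set_option autoImplicit false

namespace Cfsg.Agent.Lib.H5.Zas

open Subgroup Cfsg.Agent.Lib.H25.Zas Cfsg.Agent.Lib.H5.FC

universe u

namespace MinCE

variable {G : Type u} [Group G] (m : MinCE G) {z : G} (hz : orderOf z = 2)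
  (Z : Subgroup G) [Z.Normal] (hZ : Z = zpowers z)

include m hz hZ

/-- proper non-trivial perfect subgroups of `G / ⟨z⟩` are isomorphic to `A₅` -/
theorem quot_perf (M : Subgroup (G ⧸ Z)) (hMt : M ≠ ⊤) (hMb : M ≠ ⊥)
    (hMp : commutator M = ⊤) : Nonempty (M ≃* alternatingGroup (Fin 5)) := by
  haveI := m.fin
  haveI : Fact (Nat.Prime 2) := ⟨Nat.prime_two⟩
  haveI : Fact (Nat.Prime 5) := ⟨by norm_num⟩
  have hsurj := QuotientGroup.mk'_surjective Z
  set K := M.comap (QuotientGroup.mk' Z) with hK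
  have hKM : K.map (QuotientGroup.mk' Z) = M := Subgroup.map_comap_eq_self_of_surjective hsurj M
  obtain ⟨k, hk⟩ := exists_dser_stable K
  obtain ⟨S, hS⟩ : ∃ S : Subgroup G, S = dser K k := ⟨_, rfl⟩
  have hSM : S.map (QuotientGroup.mk' Z) = M := by
    rw [hS, map_dser, hKM, dser_of_perfect M hMp]
  have hSperf : commutator S = ⊤ := by
    apply commutator_eq_top_of_self
    rw [hS, ← dser_succ, hk]
  have hSb : S ≠ ⊥ := by
    intro h
    apply hMb
    rw [← hSM, h, Subgroup.map_bot]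
  have hSt : S ≠ ⊤ := by
    intro h
    apply hMt
    rw [← hSM, h, ← MonoidHom.range_eq_map]
    exact MonoidHom.range_eq_top.mpr hsurj
  obtain ⟨e⟩ := m.ih S hSt hSb hSperf
  have hcard : Nat.card S = 120 := by rw [Nat.card_congr e.toEquiv, card_sl25]
  have hzS : z ∈ S := fpf_mem_of_even_card m.fpf hz S (by rw [hcard]; norm_num)
  -- `e z = -1`
  have hez : e.symm (-1) = ⟨z, hzS⟩ := by
    have h1 : orderOf (e.symm (-1)) = 2 := by
      rw [e.symm.orderOf_eq]
      apply orderOf_eq_prime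
      · rw [pow_two]; exact neg_one_sq
      · exact neg_one_ne
    have h2 : orderOf ((e.symm (-1) : S) : G) = 2 := by
      rw [Subgroup.orderOf_coe]; exact h1
    exact Subtype.ext (fpf_eq_of_orderOf_two m.fpf h2 hz)
  let ψ : S →* M := ((QuotientGroup.mk' Z).comp S.subtype).codRestrict M (fun s => by
    rw [← hSM]
    exact Subgroup.mem_map_of_mem _ s.2)
  have hψ : ∀ s : S, ((ψ s : M) : G ⧸ Z) = (QuotientGroup.mk' Z) (s : G) := fun s => rfl
  have hψsurj : Function.Surjective ψ := by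
    rintro ⟨r, hr⟩
    rw [← hSM] at hr
    obtain ⟨s, hs, rfl⟩ := hr
    exact ⟨⟨s, hs⟩, rfl⟩
  let θ : SL25 →* M := ψ.comp e.symm.toMonoidHom
  have hθsurj : Function.Surjective θ := hψsurj.comp e.symm.surjective
  have hπz : (QuotientGroup.mk' Z) z = 1 :=
    (QuotientGroup.eq_one_iff z).mpr (m.z_mem_Z hz Z hZ)
  have hker : θ.ker = center SL25 := by
    ext g
    rw [MonoidHom.mem_ker]
    constructor
    · intro h
      have h1 : ((e.symm g : S) : G) ∈ Z := by
        have h2 : (QuotientGroup.mk' Z) ((e.symm g : S) : G) = 1 := by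
          have := congrArg Subtype.val h
          exact this
        exact (QuotientGroup.eq_one_iff _).mp h2
      rcases (m.mem_Z_iff hz Z hZ).mp h1 with h2 | h2
      · have h3 : e.symm g = 1 := Subtype.ext h2
        have h4 : g = 1 := e.symm.injective (by rw [h3, map_one])
        rw [h4]; exact one_mem _
      · have h3 : e.symm g = e.symm (-1) := by rw [hez]; exact Subtype.ext h2
        rw [e.symm.injective h3]
        exact neg_one_mem_center
    · intro h
      rcases center_sl25 g h with h1 | h1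
      · rw [h1, map_one]
      · rw [h1]
        apply Subtype.ext
        show ((ψ (e.symm (-1)) : M) : G ⧸ Z) = 1
        rw [hψ, hez]
        exact hπz
  obtain ⟨e5⟩ := Cfsg.Agent.S0253.result (F := ZMod 5) (ZMod.card 5)
  exact ⟨(QuotientGroup.quotientKerEquivOfSurjective θ hθsurj).symm.trans
    ((QuotientGroup.quotientMulEquivOfEq hker).trans e5)⟩

/-- lifting elements of order three -/
theorem exists_lift_three (b : G ⧸ Z) (hb : orderOf b = 3) :
    ∃ b' : G, (QuotientGroup.mk' Z) b' = b ∧ orderOf b' = 3 := by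
  haveI : Fact (Nat.Prime 3) := ⟨by norm_num⟩
  obtain ⟨b₀, rfl⟩ := QuotientGroup.mk'_surjective Z b
  have hπz : (QuotientGroup.mk' Z) z = 1 :=
    (QuotientGroup.eq_one_iff z).mpr (m.z_mem_Z hz Z hZ)
  have h1 : b₀ ^ 3 ∈ Z := by
    rw [← QuotientGroup.eq_one_iff]
    have := pow_orderOf_eq_one ((QuotientGroup.mk' Z) b₀)
    rw [hb] at this
    exact this
  have hne : ∀ c : G, (QuotientGroup.mk' Z) c = (QuotientGroup.mk' Z) b₀ → c ≠ 1 := by
    intro c hc h
    rw [h, map_one] at hc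
    rw [← hc, orderOf_one] at hb
    omega
  rcases (m.mem_Z_iff hz Z hZ).mp h1 with h | h
  · exact ⟨b₀, rfl, orderOf_eq_prime h (hne b₀ rfl)⟩
  · have hzc := mem_center_iff.mp (m.Z_le_center hz Z hZ (m.z_mem_Z hz Z hZ))
    have hb' : (QuotientGroup.mk' Z) (b₀ * z) = (QuotientGroup.mk' Z) b₀ := by
      rw [map_mul, hπz, mul_one]
    refine ⟨b₀ * z, hb', orderOf_eq_prime ?_ (hne _ hb')⟩
    have hcomm : Commute b₀ z := hzc b₀
    rw [hcomm.mul_pow, h]
    calc z * z ^ 3 = (z * z) * (z * z) := by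
          rw [pow_succ, pow_two]; group
      _ = 1 := by rw [m.z_sq hz Z hZ, one_mul]

/-- lifting involutions to elements of order four -/
theorem exists_lift_two (a : G ⧸ Z) (ha : orderOf a = 2) :
    ∃ a' : G, (QuotientGroup.mk' Z) a' = a ∧ orderOf a' = 4 := by
  haveI : Fact (Nat.Prime 2) := ⟨Nat.prime_two⟩
  obtain ⟨a₀, rfl⟩ := QuotientGroup.mk'_surjective Z a
  have hπz : (QuotientGroup.mk' Z) z = 1 :=
    (QuotientGroup.eq_one_iff z).mpr (m.z_mem_Z hz Z hZ)
  have h1 : a₀ ^ 2 ∈ Z := by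
    rw [← QuotientGroup.eq_one_iff]
    have := pow_orderOf_eq_one ((QuotientGroup.mk' Z) a₀)
    rw [ha] at this
    exact this
  have hne : a₀ ∉ Z := by
    intro h
    rw [← QuotientGroup.eq_one_iff] at h
    have h2 : (QuotientGroup.mk' Z) a₀ = 1 := h
    rw [h2, orderOf_one] at ha
    omega
  have h2 : a₀ ^ 2 = z := by
    rcases (m.mem_Z_iff hz Z hZ).mp h1 with h | h
    · exfalso
      apply hne
      have h3 : a₀ ≠ 1 := fun h4 => hne (h4 ▸ one_mem _)
      have h4 : orderOf a₀ = 2 := orderOf_eq_prime h h3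
      rw [fpf_eq_of_orderOf_two m.fpf h4 hz]
      exact m.z_mem_Z hz Z hZ
    · exact h
  refine ⟨a₀, rfl, ?_⟩
  have h3 : ¬ a₀ ^ 2 ^ 1 = 1 := by
    rw [pow_one, h2]; exact m.z_ne_one hz Z hZ
  have h4 : a₀ ^ 2 ^ (1 + 1) = 1 := by
    have : a₀ ^ 2 ^ (1 + 1) = (a₀ ^ 2) * (a₀ ^ 2) := by
      rw [← pow_add]; rfl
    rw [this, h2, m.z_sq hz Z hZ]
  exact orderOf_eq_prime_pow h3 h4

/-- two elements of orders `2|3` and `3` do not generate `G / ⟨z⟩` -/
theorem quot_gen (a b : G ⧸ Z) (ha : orderOf a = 2 ∨ orderOf a = 3) (hb : orderOf b = 3) :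
    closure {a, b} ≠ ⊤ := by
  haveI := m.fin
  haveI := m.nontriv
  intro hgen
  obtain ⟨b', hb', hb'o⟩ := m.exists_lift_three hz Z hZ b hb
  obtain ⟨a', ha', ha'o⟩ : ∃ a' : G, (QuotientGroup.mk' Z) a' = a ∧
      (orderOf a' = 3 ∨ orderOf a' = 4) := by
    rcases ha with h | h
    · obtain ⟨a', h1, h2⟩ := m.exists_lift_two hz Z hZ a h
      exact ⟨a', h1, Or.inr h2⟩
    · obtain ⟨a', h1, h2⟩ := m.exists_lift_three hz Z hZ a h
      exact ⟨a', h1, Or.inl h2⟩
  obtain ⟨X, hX⟩ : ∃ X : Subgroup G, X = closure {a', b'} := ⟨_, rfl⟩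
  have hXπ : X.map (QuotientGroup.mk' Z) = ⊤ := by
    rw [hX, MonoidHom.map_closure, Set.image_pair, ha', hb', hgen]
  have hsup : X ⊔ Z = ⊤ := by
    have := Subgroup.comap_map_eq (QuotientGroup.mk' Z) X
    rw [hXπ, Subgroup.comap_top, QuotientGroup.ker_mk'] at this
    exact this.symm
  have hZc := m.Z_le_center hz Z hZ
  haveI hXn : X.Normal := by
    rw [← Subgroup.normalizer_eq_top_iff, eq_top_iff, ← hsup]
    exact sup_le Subgroup.le_normalizer (hZc.trans (Subgroup.center_le_normalizer _))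
  -- `G ⧸ X` is a quotient of `Z`
  haveI : Group.IsSolvable Z := Group.isSolvable_of_comm (fun x y =>
    Subtype.ext ((mem_center_iff.mp (hZc y.2) x)))
  let f : Z →* G ⧸ X := (QuotientGroup.mk' X).comp Z.subtype
  have hf : Function.Surjective f := by
    rw [← MonoidHom.range_eq_top, MonoidHom.range_comp, Subgroup.range_subtype]
    have h1 : (X ⊔ Z).map (QuotientGroup.mk' X) = ⊤ := by
      rw [hsup, ← MonoidHom.range_eq_map]
      exact MonoidHom.range_eq_top.mpr (QuotientGroup.mk'_surjective X)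
    rw [Subgroup.map_sup, QuotientGroup.map_mk'_self X, bot_sup_eq] at h1
    exact h1
  haveI : Group.IsSolvable (G ⧸ X) := Group.isSolvable_of_surjective hf
  have hQperf : commutator (G ⧸ X) = ⊤ :=
    commutator_eq_top_of_surjective m.perf (QuotientGroup.mk' X) (QuotientGroup.mk'_surjective X)
  haveI := subsingleton_of_perfect_solvable hQperf
  have hXtop : X = ⊤ := by
    rw [eq_top_iff]
    intro g _
    have h1 : ((g : G) : G ⧸ X) = 1 := Subsingleton.elim _ _
    exact (QuotientGroup.eq_one_iff g).mp h1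
  rw [hX] at hXtop
  have hdim : IsFPFdim G 2 := IsFPF.dim_le_two_of_closure m.fpf ha'o (Or.inl hb'o) hXtop
  exact m.notSL (sl25_of_dim_two hdim m.perf)

/-- the quotient `G / ⟨z⟩` of a minimal counterexample satisfies helper25's hypothesis `HHyp` -/
theorem quot_hHyp : HHyp (G ⧸ Z) where
  finite := by haveI := m.fin; infer_instance
  simple := m.quot_simple hz Z hZ
  syl := m.quot_syl hz Z hZ
  odd := m.quot_odd hz Z hZ
  perf := m.quot_perf hz Z hZ
  gen := m.quot_gen hz Z hZ

end MinCE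

end Cfsg.Agent.Lib.H5.Zas
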