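import Mathlib
import Cfsg.Agent.Lib.H5.Zas.Quot2
import Cfsg.Agent.Lib.H5.Zas.Bridge

/-!
# Zassenhaus' theorem: reduction to helper25's local analysis `HHyp.false` (helper5)

A non-trivial perfect group with a fixed-point-free complex representation is `SL(2,5)`,
provided no group satisfies `HHyp` (helper25 proves this).
-/

set_option autoImplicit false

namespace Cfsg.Agent.Lib.H5.Zas

open Subgroup Cfsg.Agent.Lib.H25.Zas Cfsg.Agent.Lib.H5.FC

universe u

theorem zassenhaus_aux (hH : ∀ (H : Type u) [Group H], HHyp H → False) :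
    ∀ (n : ℕ) (G : Type u) [Group G] [Finite G], Nat.card G ≤ n → IsFPF G →
      commutator G = ⊤ → Nontrivial G → Nonempty (G ≃* SL25) := by
  intro n
  induction n with
  | zero =>
    intro G _ _ h0 _ _ _
    have : 0 < Nat.card G := Nat.card_pos
    omega
  | succ n ih =>
    intro G _ _ hn hF hperf hnt
    by_contra hnot
    haveI : Fact (Nat.Prime 2) := ⟨Nat.prime_two⟩
    have m : MinCE G :=
      { fin := inferInstance
        fpf := hF
        perf := hperf
        nontriv := hnt
        notSL := hnot
        ih := by
          intro S hSt hSb hSp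
          have hlt : Nat.card S < Nat.card G := by
            by_contra hge
            push Not at hge
            apply hSt
            exact Subgroup.eq_top_of_card_eq S (le_antisymm (Subgroup.card_le_card_group S) hge)
          exact ih S (by omega) (hF.subgroup S) hSp ((Subgroup.nontrivial_iff_ne_bot S).mpr hSb) }
    have h8 := eight_dvd_card hF hperf
    obtain ⟨z, hz⟩ := exists_prime_orderOf_dvd_card' (G := G) 2 (dvd_trans (by norm_num) h8)
    have hzc : z ∈ center G := fpf_orderOf_two_mem_center hF hz
    haveI : (zpowers z).Normal := by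
      refine ⟨fun x hx g => ?_⟩
      have hxc : x ∈ center G := (zpowers_le.mpr hzc) hx
      have : g * x * g⁻¹ = x := by
        rw [(mem_center_iff.mp hxc) g]; group
      rw [this]; exact hx
    exact hH (G ⧸ zpowers z) (m.quot_hHyp hz (zpowers z) rfl)

/-- **Zassenhaus' theorem** for fixed-point-free representations, modulo `HHyp.false`. -/
theorem zassenhaus_fpf (hH : ∀ (H : Type u) [Group H], HHyp H → False)
    (G : Type u) [Group G] [Finite G] [Nontrivial G] (hF : IsFPF G) (hperf : commutator G = ⊤) :
    Nonempty (G ≃* SL25) :=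
  zassenhaus_aux hH (Nat.card G) G le_rfl hF hperf inferInstance

/-- **Zassenhaus' theorem** (statement S0690), modulo `HHyp.false`. -/
theorem zassenhaus_mulAut (hH : ∀ (H : Type u) [Group H], HHyp H → False)
    {K : Type u} [Group K] [Finite K] (G : Subgroup (MulAut K))
    (hfpf : ∀ φ ∈ G, φ ≠ 1 → ∀ k : K, φ k = k → k = 1) (hperf : commutator G = ⊤)
    (hne : G ≠ ⊥) : Nonempty (G ≃* Matrix.SpecialLinearGroup (Fin 2) (ZMod 5)) := by
  haveI : Nontrivial G := (Subgroup.nontrivial_iff_ne_bot G).mpr hne
  exact zassenhaus_fpf hH G (isFPF_of_fpf_mulAut G hfpf hne) hperf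

end Cfsg.Agent.Lib.H5.Zas
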